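import Mathlib.GroupTheory.Sylow
import Mathlib.GroupTheory.GroupAction.Primitive

/-! Point stabilisers of order `3 * 2 ^ k` all of whose Sylow 2-subgroups fix two points. -/

set_option autoImplicit false

namespace Cfsg.Agent.SimsThree

open MulAction

/-- The subgroup generated by the squares. -/
def sq {G : Type*} [Group G] (H : Subgroup G) : Subgroup G :=
  Subgroup.closure {s | ∃ h ∈ H, h * h = s}

/-- The central elements of square one. -/
def omegaZ {G : Type*} [Group G] (D : Subgroup G) : Subgroup G where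
  carrier := {z | z ∈ D ∧ z * z = 1 ∧ ∀ d ∈ D, z * d = d * z}
  one_mem' := ⟨D.one_mem, one_mul 1, fun d _ => by rw [one_mul, mul_one]⟩
  mul_mem' := by
    rintro u v ⟨hu, hu2, huc⟩ ⟨hv, hv2, hvc⟩
    refine ⟨D.mul_mem hu hv, ?_, fun d hd => ?_⟩
    · calc u * v * (u * v) = u * (v * u) * v := by group
        _ = u * (u * v) * v := by rw [hvc u hu]
        _ = (u * u) * (v * v) := by group
        _ = 1 := by rw [hu2, hv2, one_mul]
    · rw [mul_assoc, hvc d hd, ← mul_assoc, huc d hd, mul_assoc]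
  inv_mem' := by
    rintro u ⟨hu, hu2, huc⟩
    rw [show u⁻¹ = u from inv_eq_of_mul_eq_one_right hu2]
    exact ⟨hu, hu2, huc⟩

theorem omegaZ_le {G : Type*} [Group G] (D : Subgroup G) : omegaZ D ≤ D := fun _ h => h.1

/-- A subgroup such that the product of any two elements outside is inside. -/
theorem card_le_two_mul {G : Type*} [Group G] [Finite G] {H K : Subgroup G}
    (h : ∀ a ∈ K, ∀ b ∈ K, a ∉ H → b ∉ H → a * b ∈ H) : Nat.card K ≤ 2 * Nat.card H := by
  classical
  by_cases hKH : K ≤ H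
  · have := Subgroup.card_le_of_le hKH
    omega
  obtain ⟨a, ha, haH⟩ := Set.not_subset.1 hKH
  have hf : ∀ x : K, (x : G) ∉ H → a * x ∈ H := fun x hx => h a ha x x.2 haH hx
  let f : K → H ⊕ H := fun x => if hx : (x : G) ∈ H then Sum.inl ⟨x, hx⟩ else Sum.inr ⟨a * x, hf x hx⟩
  have hinj : Function.Injective f := by
    intro x y e
    by_cases hx : (x : G) ∈ H <;> by_cases hy : (y : G) ∈ H <;>
      simp only [f, hx, hy, dite_true, dite_false, Sum.inl.injEq, Sum.inr.injEq, reduceCtorEq,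
        Subtype.mk.injEq, mul_right_inj] at e
    · exact Subtype.ext e
    · exact Subtype.ext e
  have := Nat.card_le_card_of_injective f hinj
  rw [Nat.card_sum] at this
  omega

theorem sq_le {G : Type*} [Group G] {H L : Subgroup G} (h : ∀ x ∈ H, x * x ∈ L) : sq H ≤ L := by
  refine (Subgroup.closure_le _).2 ?_
  rintro _ ⟨x, hx, rfl⟩
  exact h x hx

theorem mem_sq {G : Type*} [Group G] {H : Subgroup G} {x : G} (hx : x ∈ H) : x * x ∈ sq H :=
  Subgroup.subset_closure ⟨x, hx, rfl⟩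

theorem sq_mono {G : Type*} [Group G] {H L : Subgroup G} (h : H ≤ L) : sq H ≤ sq L :=
  sq_le fun _ hx => mem_sq (h hx)

/-- The hypotheses on the action. -/
structure Setup (G Ω : Type*) [Group G] [MulAction G Ω] (k : ℕ) : Prop where
  card : ∀ x : Ω, Nat.card (stabilizer G x) = 3 * 2 ^ k
  pos : 0 < k
  max : ∀ x : Ω, ∀ H : Subgroup G, stabilizer G x ≤ H → H = stabilizer G x ∨ H = ⊤
  inj : ∀ x y : Ω, stabilizer G x = stabilizer G y → x = y
  trans : ∀ x y : Ω, ∃ g : G, g • x = y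
  faith : ∀ g : G, (∀ x : Ω, g • x = x) → g = 1
  edge : ∀ x : Ω, ∀ D : Subgroup G, D ≤ stabilizer G x → Nat.card D = 2 ^ k →
    ∃ y, y ≠ x ∧ D ≤ stabilizer G y

section

variable {G Ω : Type*} [Group G] [MulAction G Ω]

variable (k : ℕ)

/-- The Sylow 2-subgroups of a point stabiliser. -/
def Syl (x : Ω) (D : Subgroup G) : Prop := D ≤ stabilizer G x ∧ Nat.card D = 2 ^ k

/-- The intersection of the Sylow 2-subgroups of a point stabiliser. -/
def core (x : Ω) : Subgroup G := ⨅ D : {D : Subgroup G // Syl k x D}, (D : Subgroup G)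

/-- The subgroup generated by the central involutions of the Sylow 2-subgroups. -/
def zgen (x : Ω) : Subgroup G := ⨆ D : {D : Subgroup G // Syl k x D}, omegaZ (D : Subgroup G)

end

variable {G Ω : Type*} [Group G] [MulAction G Ω] {k : ℕ}

/-- Conjugation of a subgroup. -/
def cj (g : G) (H : Subgroup G) : Subgroup G := H.map (MulAut.conj g).toMonoidHom

theorem mem_cj {g : G} {H : Subgroup G} {u : G} : u ∈ cj g H ↔ g⁻¹ * u * g ∈ H := by
  constructor
  · rintro ⟨v, hv, rfl⟩
    simpa [mul_assoc] using hv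
  · intro h
    exact ⟨_, h, by simp [mul_assoc]⟩

theorem conj_mem_cj {g : G} {H : Subgroup G} {u : G} (h : u ∈ H) : g * u * g⁻¹ ∈ cj g H :=
  ⟨u, h, rfl⟩

theorem card_cj (g : G) (H : Subgroup G) : Nat.card (cj g H) = Nat.card H :=
  Subgroup.card_map_of_injective (MulAut.conj g).injective

theorem cj_cj (g h : G) (H : Subgroup G) : cj g (cj h H) = cj (g * h) H := by
  ext u
  simp [mem_cj, mul_assoc]

theorem cj_one (H : Subgroup G) : cj 1 H = H := by
  ext u
  simp [mem_cj]

theorem cj_mono {g : G} {H L : Subgroup G} (h : H ≤ L) : cj g H ≤ cj g L := Subgroup.map_mono h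

theorem cj_eq_self {H : Subgroup G} {g : G} (h : g ∈ H) : cj g H = H := by
  ext u
  rw [mem_cj, Subgroup.mul_mem_cancel_right H h, Subgroup.mul_mem_cancel_left H (H.inv_mem h)]

theorem syl_cj {g : G} {x : Ω} {D : Subgroup G} (h : Syl k x D) : Syl k (g • x) (cj g D) := by
  refine ⟨fun u hu => ?_, (card_cj g D).trans h.2⟩
  have := h.1 (mem_cj.1 hu)
  rw [mem_stabilizer_iff, mul_smul, mul_smul, inv_smul_eq_iff] at this
  exact this

theorem syl_cj_stab {g : G} {x : Ω} (hg : g • x = x) {D : Subgroup G} (h : Syl k x D) :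
    Syl k x (cj g D) := by
  have := syl_cj (g := g) h
  rwa [hg] at this

theorem omegaZ_cj (g : G) (D : Subgroup G) : cj g (omegaZ D) = omegaZ (cj g D) := by
  ext u
  rw [mem_cj]
  constructor
  · rintro ⟨h1, h2, h3⟩
    refine ⟨mem_cj.2 h1, ?_, fun d hd => ?_⟩
    · have e := congrArg (fun w => g * w * g⁻¹) h2
      simpa [mul_assoc] using e
    · have e := congrArg (fun w => g * w * g⁻¹) (h3 _ (mem_cj.1 hd))
      simpa [mul_assoc] using e
  · rintro ⟨h1, h2, h3⟩
    refine ⟨mem_cj.1 h1, ?_, fun d hd => ?_⟩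
    · rw [show g⁻¹ * u * g * (g⁻¹ * u * g) = g⁻¹ * (u * u) * g by group, h2]; group
    · have e := h3 _ (conj_mem_cj (g := g) hd)
      calc g⁻¹ * u * g * d = g⁻¹ * (u * (g * d * g⁻¹)) * g := by group
        _ = g⁻¹ * (g * d * g⁻¹ * u) * g := by rw [e]
        _ = d * (g⁻¹ * u * g) := by group

theorem core_le {x : Ω} {D : Subgroup G} (h : Syl k x D) : core k x ≤ D :=
  iInf_le (fun D : {D : Subgroup G // Syl k x D} => (D : Subgroup G)) ⟨D, h⟩

theorem omegaZ_le_zgen {x : Ω} {D : Subgroup G} (h : Syl k x D) : omegaZ D ≤ zgen k x :=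
  le_iSup (fun D : {D : Subgroup G // Syl k x D} => omegaZ (D : Subgroup G)) ⟨D, h⟩

theorem cj_core (g : G) (x : Ω) {u : G} (hu : u ∈ core k x) : g * u * g⁻¹ ∈ core k (g • x) := by
  simp only [core, Subgroup.mem_iInf] at hu ⊢
  rintro ⟨D, hD⟩
  have h' := syl_cj (g := g⁻¹) hD
  rw [inv_smul_smul] at h'
  have h2 : g * u * g⁻¹ ∈ cj g (cj g⁻¹ D) := conj_mem_cj (hu ⟨_, h'⟩)
  rwa [cj_cj, mul_inv_cancel, cj_one] at h2

theorem cj_zgen (g : G) (x : Ω) {u : G} (hu : u ∈ zgen k x) : g * u * g⁻¹ ∈ zgen k (g • x) := by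
  refine Subgroup.iSup_induction (fun D : {D : Subgroup G // Syl k x D} => omegaZ (D : Subgroup G))
    (C := fun u => g * u * g⁻¹ ∈ zgen k (g • x)) hu ?_ ?_ ?_
  · rintro ⟨D, hD⟩ v hv
    exact omegaZ_le_zgen (syl_cj hD) (omegaZ_cj g D ▸ conj_mem_cj hv)
  · simp
  · intro v w hv hw
    rw [show g * (v * w) * g⁻¹ = g * v * g⁻¹ * (g * w * g⁻¹) by group]
    exact mul_mem hv hw

end Cfsg.Agent.SimsThree
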