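import Cfsg.Agent.SimsThree.Main

/-! The three cases of the critical distance. -/

set_option autoImplicit false

namespace Cfsg.Agent.SimsThree

open MulAction

variable {G Ω : Type*} [Group G] [Finite G] [MulAction G Ω] {k : ℕ}

namespace Setup

variable (h : Setup G Ω k) (hZ : ∀ (x : Ω) (D : Subgroup G), Syl k x D → omegaZ D ≤ core k x)
include h hZ

omit h [Finite G] in
/-- Elements commuting with a generating pair. -/
theorem mem_zgen_of_sup {x z : Ω} {u : G} (hu : u ∈ zgen k x ⊔ zgen k z) {w : G}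
    (hx : ∀ v ∈ zgen k x, v * w = w * v) (hz : ∀ v ∈ zgen k z, v * w = w * v) : u * w = w * u := by
  have : zgen (G := G) k x ⊔ zgen k z ≤ Subgroup.centralizer {w} := sup_le
    (fun v hv => Subgroup.mem_centralizer_singleton_iff.2 (hx v hv))
    (fun v hv => Subgroup.mem_centralizer_singleton_iff.2 (hz v hv))
  exact Subgroup.mem_centralizer_singleton_iff.1 (this hu)

/-- The data of a pair at critical distance. -/
theorem offender {b : ℕ} (hmin : ∀ n < b, ∀ x y : Ω, Reach G k n x y → Comm G k x y) {a a' : Ω}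
    (hr : Reach G k b a a') (hnc : ¬ Comm G k a a') (x : Ω) (D : Subgroup G) (hD : Syl k x D) :
    ∀ u ∈ zgen k x, ∀ v ∈ zgen k x, u ∉ omegaZ D → v ∉ omegaZ D → u * v ∈ omegaZ D := by
  rcases b with _ | n
  · obtain ⟨p, h0, hn, -⟩ := hr
    exact absurd (comm_self hZ a) (by rw [← hn, h0] at hnc; exact hnc)
  obtain ⟨β, ⟨D0, hD0a, hD0β⟩, hβ⟩ := reach_head hr
  obtain ⟨q, hq, D1, hD1q, hD1a'⟩ := reach_last hr
  have hV' : zgen (G := G) k a' ≤ D0 :=
    h.near_syl hZ hmin (Nat.lt_succ_self n) (reach_symm hβ) hD0β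
  have hV : zgen (G := G) k a ≤ D1 := h.near_syl hZ hmin (Nat.lt_succ_self n) hq hD1q
  obtain ⟨e, he, hec⟩ : ∃ e ∈ zgen k a', e ∉ core k a := by
    by_contra hcon
    push Not at hcon
    exact hnc fun u hu w hw => zgen_comm_core hZ hu (hcon w hw)
  -- the statement at `(a, D0)`
  have key : ∀ u ∈ zgen k a, ∀ v ∈ zgen k a, u ∉ omegaZ D0 → v ∉ omegaZ D0 → u * v ∈ omegaZ D0 := by
    intro u hu v hv hu' hv'
    have hZ0 : ∀ w ∈ zgen k a, w * e = e * w → w ∈ omegaZ D0 := by
      intro w hw hwe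
      refine mem_omegaZ hZ hD0a hw fun d hd => ?_
      by_cases hdc : d ∈ core k a
      · exact zgen_comm_core hZ hw hdc
      · have := zgen_comm_core hZ hw (h.mul_mem_core hD0a d hd e (hV' he) hdc hec)
        apply mul_right_cancel (b := e)
        calc w * d * e = d * e * w := by rw [mul_assoc]; exact this
          _ = d * w * e := by rw [mul_assoc, ← hwe, ← mul_assoc]
    refine hZ0 _ (mul_mem hu hv) ?_
    have hout : ∀ {w : G}, w ∈ zgen k a → w ∉ omegaZ D0 → w ∉ core k a' := fun {w} hw hw' hc =>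
      hw' (hZ0 w hw (zgen_comm_core hZ he hc).symm)
    exact (zgen_comm_core hZ he (h.mul_mem_core hD1a' u (hV hu) v (hV hv) (hout hu hu') (hout hv hv'))).symm
  intro u hu v hv hu' hv'
  obtain ⟨g, hgx, hgD⟩ := h.syl_transport hD hD0a
  have hmem : ∀ w, w ∈ omegaZ D ↔ g * w * g⁻¹ ∈ omegaZ D0 := fun w => by
    rw [← hgD, ← omegaZ_cj, mem_cj]; simp [mul_assoc]
  rw [hmem] at hu' hv' ⊢
  rw [show g * (u * v) * g⁻¹ = g * u * g⁻¹ * (g * v * g⁻¹) by group]
  exact key _ (hgx ▸ cj_zgen g x hu) _ (hgx ▸ cj_zgen g x hv) hu' hv'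

variable (hV : ∀ (x : Ω) (D : Subgroup G), Syl k x D →
  ∀ u ∈ zgen k x, ∀ v ∈ zgen k x, u ∉ omegaZ D → v ∉ omegaZ D → u * v ∈ omegaZ D)
include hV

theorem le_sixteen_of_adjacent {a a' : Ω} (hs : Step G k a a') (hnc : ¬ Comm G k a a') :
    2 ^ k ≤ 16 := by
  obtain ⟨D, hDa, hDa'⟩ := hs
  have hne : a ≠ a' := fun e => hnc (e ▸ comm_self hZ a)
  have hsq : ∀ {x y : Ω}, Syl k x D → Syl k y D → x ≠ y → ¬ Comm G k x y →
      (∃ v ∈ zgen (G := G) k x, v ∉ core k y) ∧ sq (core (G := G) k x) = ⊥ := by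
    intro x y hx hy hxy hnc
    obtain ⟨v, hv, hvc⟩ : ∃ v ∈ zgen k x, v ∉ core k y := by
      by_contra hcon
      push Not at hcon
      exact hnc fun u hu w hw => (zgen_comm_core hZ hw (hcon u hu)).symm
    refine ⟨⟨v, hv, hvc⟩, h.sq_core_eq_bot hxy (sq_le fun c hc => ?_)⟩
    by_cases hcy : c ∈ core k y
    · exact mem_sq hcy
    · have hm := h.mul_mem_core hy c (core_le hx hc) v (core_le hx (zgen_le_core hZ x hv)) hcy hvc
      have e : c * v * (c * v) = c * c := by
        calc c * v * (c * v) = c * (v * c) * v := by group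
          _ = c * (c * v) * v := by rw [zgen_comm_core hZ hv hc]
          _ = c * c * (v * v) := by group
          _ = c * c := by rw [zgen_sq hZ hv, mul_one]
      exact e ▸ mem_sq hm
  obtain ⟨-, hbot⟩ := hsq hDa hDa' hne hnc
  obtain ⟨⟨w, hw, hwc⟩, -⟩ := hsq hDa' hDa hne.symm fun e => hnc (comm_symm e)
  have h2 : ∀ c ∈ core (G := G) k a, c * c = 1 := fun c hc => (Subgroup.eq_bot_iff_forall _).1 hbot _ (mem_sq hc)
  have hab : ∀ c ∈ core (G := G) k a, ∀ e ∈ core (G := G) k a, c * e = e * c := by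
    intro c hc e he
    calc c * e = (c * e)⁻¹ := (inv_eq_of_mul_eq_one_right (h2 _ (mul_mem hc he))).symm
      _ = e * c := by
        rw [mul_inv_rev, inv_eq_of_mul_eq_one_right (h2 c hc), inv_eq_of_mul_eq_one_right (h2 e he)]
  set X : Subgroup G := core k a ⊓ core k a' with hX
  have hXZ : X ≤ omegaZ D := by
    rintro c ⟨hc, hc'⟩
    refine ⟨core_le hDa hc, h2 c hc, fun d hd => ?_⟩
    by_cases hdc : d ∈ core k a
    · exact hab c hc d hdc
    · have hdw := hab c hc _ (h.mul_mem_core hDa d hd w (core_le hDa' (zgen_le_core hZ a' hw)) hdc hwc)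
      apply mul_right_cancel (b := w)
      calc c * d * w = d * w * c := by rw [mul_assoc]; exact hdw
        _ = d * c * w := by rw [mul_assoc, zgen_comm_core hZ hw hc', ← mul_assoc]
  have hc1 : Nat.card X ≤ 4 := (Subgroup.card_le_of_le hXZ).trans (h.card_omegaZ hZ hV hDa)
  have hc2 : Nat.card (core (G := G) k a) ≤ 2 * Nat.card X := card_le_two_mul fun u hu v hv hu' hv' =>
    ⟨mul_mem hu hv, h.mul_mem_core hDa' u (core_le hDa hu) v (core_le hDa hv)
      (fun e => hu' ⟨hu, e⟩) (fun e => hv' ⟨hv, e⟩)⟩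
  have hc3 := card_le_two_mul (h.mul_mem_core hDa)
  rw [hDa.2] at hc3
  omega

omit hV in
theorem pair_smul {x z : Ω} (g : G) (hp : Pair G k x z) : Pair G k (g • x) (g • z) := by
  intro u hu w hw
  have hu' : g⁻¹ * u * g ∈ stabilizer G x := by
    rw [mem_stabilizer_iff, mul_smul, mul_smul, mem_stabilizer_iff.1 hu, inv_smul_smul]
  have hw' : g⁻¹ * w * g ∈ zgen k z := by
    have := cj_zgen (k := k) g⁻¹ (g • z) hw
    rwa [inv_smul_smul, inv_inv] at this
  have hle : zgen (G := G) k x ⊔ zgen k z ≤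
      (zgen (G := G) k (g • x) ⊔ zgen k (g • z)).comap (MulAut.conj g).toMonoidHom :=
    sup_le (fun v hv => Subgroup.mem_sup_left (cj_zgen g x hv))
      (fun v hv => Subgroup.mem_sup_right (cj_zgen g z hv))
  have := hle (hp _ hu' _ hw')
  rw [Subgroup.mem_comap] at this
  simpa [mul_assoc] using this

omit hV in
/-- The first edge of a critical path does not give a normal pair at its second point. -/
theorem not_pair {m : ℕ} (hmin : ∀ n < m + 2, ∀ x y : Ω, Reach G k n x y → Comm G k x y) {a β a' : Ω}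
    (hs : Step G k a β) (hr : Reach G k (m + 1) β a') (hnc : ¬ Comm G k a a') : ¬ Pair G k β a := by
  intro hp
  obtain ⟨D0, hD0a, hD0β⟩ := hs
  obtain ⟨γ, ⟨D1, hD1β, hD1γ⟩, hγ⟩ := reach_head hr
  obtain ⟨τ, hτ, hτD⟩ := h.syl_conj hD0β hD1β
  have hz : Syl k (τ • a) D1 := hτD ▸ syl_cj hD0a
  have hc1 := hmin (m + 1) (by omega) (τ • a) a' (reach_cons ⟨D1, hz, hD1γ⟩ hγ)
  have hc2 := hmin (m + 1) (by omega) β a' hr
  have hp' := pair_smul h hZ τ hp
  rw [mem_stabilizer_iff.1 hτ] at hp'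
  refine hnc fun u hu w hw => ?_
  have h1 := hp' τ⁻¹ (inv_mem hτ) _ (cj_zgen τ a hu)
  rw [show τ⁻¹ * (τ * u * τ⁻¹) * τ⁻¹⁻¹ = u by group] at h1
  exact mem_zgen_of_sup hZ h1 (fun v hv => hc2 v hv w hw) (fun v hv => hc1 v hv w hw)

/-- Critical distance at least three is impossible. -/
theorem false_of_three_le {m : ℕ} (hmin : ∀ n < m + 3, ∀ x y : Ω, Reach G k n x y → Comm G k x y)
    {a a' : Ω} (hr : Reach G k (m + 3) a a') (hnc : ¬ Comm G k a a') : False := by
  obtain ⟨β, hsβ, hβ⟩ := reach_head hr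
  refine h.not_pair hZ (m := m + 1) hmin hsβ hβ hnc ?_
  obtain ⟨D0, hD0a, hD0β⟩ := hsβ
  obtain ⟨q, hq, D1, hD1q, hD1a'⟩ := reach_last hr
  obtain ⟨q2, hq2, Dq, hDq2, hDq⟩ := reach_last hq
  have hVa' : zgen (G := G) k a' ≤ D0 :=
    h.near_syl hZ hmin (show m + 2 < m + 3 by omega) (reach_symm hβ) hD0β
  have hVa : zgen (G := G) k a ≤ D1 := h.near_syl hZ hmin (show m + 2 < m + 3 by omega) hq hD1q
  -- a non-trivial commutator
  obtain ⟨v, hv, u, hu, huv⟩ : ∃ v ∈ zgen (G := G) k a, ∃ u ∈ zgen (G := G) k a', u * v * u⁻¹ * v⁻¹ ≠ 1 := by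
    by_contra hcon
    push Not at hcon
    refine hnc fun v hv u hu => ?_
    have := hcon v hv u hu
    rw [mul_inv_eq_one, mul_inv_eq_iff_eq_mul] at this
    exact this.symm
  set R := u * v * u⁻¹ * v⁻¹ with hR
  have hRa : IsR k a D0 R := ⟨huv, u, hVa' hu, v, hv, rfl⟩
  have hRinv : R⁻¹ = R := inv_eq_of_mul_eq_one_right (h.isR_mem hZ hV hD0a hRa).2.1
  have hRa' : IsR k a' D1 R := ⟨huv, v, hVa hv, u, hu, by rw [← hRinv, hR]; group⟩
  have huc : u ∉ core k a := fun hc => huv (by rw [hR, ← zgen_comm_core hZ hv hc]; group)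
  -- other edges at `a` give normal pairs
  obtain ⟨D2, hD2, hD20⟩ := h.exists_other hD0a
  have huD2 : u ∉ D2 := fun e => huc (by rw [h.core_eq hD0a hD2 hD20.symm]; exact ⟨hVa' hu, e⟩)
  have hgen : ∀ {H : Subgroup G}, D2 ≤ H → u ∈ H → stabilizer G a ≤ H := by
    intro H hH huH
    have : H ⊓ stabilizer G a = stabilizer G a :=
      h.eq_of_lt hD2 (le_inf hH hD2.1) inf_le_right fun e =>
        huD2 (e ▸ ⟨huH, hD0a.1 (hVa' hu)⟩)
    exact inf_eq_right.1 this
  have hpair : ∀ z, Syl k z D2 → Pair G k a z := by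
    intro z hz
    have hzq : Comm G k z q := by
      by_contra hncq
      obtain ⟨w, hw, e, he, hwe⟩ : ∃ w ∈ zgen (G := G) k z, ∃ e ∈ zgen (G := G) k q, e * w * e⁻¹ * w⁻¹ ≠ 1 := by
        by_contra hcon
        push Not at hcon
        refine hncq fun w hw e he => ?_
        have := hcon w hw e he
        rw [mul_inv_eq_one, mul_inv_eq_iff_eq_mul] at this
        exact this.symm
      have heD : e ∈ D2 := h.near_syl hZ hmin (show m + 2 < m + 3 by omega) (reach_symm hq) hD2 he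
      have hwD : w ∈ Dq :=
        h.near_syl hZ hmin (show m + 2 < m + 3 by omega) (reach_cons ⟨D2, hz, hD2⟩ hq2) hDq2 hw
      set R' := e * w * e⁻¹ * w⁻¹ with hR'
      have h1 : IsR k z D2 R' := ⟨hwe, e, heD, w, hw, rfl⟩
      have h1m := h.isR_mem hZ hV hz h1
      have h2 : IsR k q Dq R' := ⟨hwe, w, hwD, e, he, by
        rw [show w * e * w⁻¹ * e⁻¹ = R'⁻¹ by rw [hR']; group]
        exact inv_eq_of_mul_eq_one_right h1m.2.1⟩
      have h2m := h.isR_mem hZ hV hDq h2
      have hq' : R' ∈ zgen k q := omegaZ_le_zgen hDq h2m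
      have hcu : u * R' = R' * u :=
        (hmin 1 (by omega) q a' (reach_cons ⟨D1, hD1q, hD1a'⟩ (reach_zero a')) R' hq' u hu).symm
      have hcent : stabilizer G a ≤ Subgroup.centralizer {R'} := hgen
        (fun d hd => Subgroup.mem_centralizer_singleton_iff.2 (h1m.2.2 d hd).symm)
        (Subgroup.mem_centralizer_singleton_iff.2 hcu)
      have hDqa : Dq ≤ stabilizer G a := fun d hd => h.mem_of_commute hwe (hD2.1 h1m.1)
        (fun g hg => Subgroup.mem_centralizer_singleton_iff.1 (hcent hg)) (h2m.2.2 d hd).symm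
      refine hnc (hmin 2 (by omega) a a' (reach_cons ⟨Dq, ⟨hDqa, hDq.2⟩, hDq⟩
        (reach_cons ⟨D1, hD1q, hD1a'⟩ (reach_zero a'))))
    have hVz : zgen (G := G) k z ≤ D1 := by
      intro w hw
      have hst : w ∈ Dq :=
        h.near_syl hZ hmin (show m + 2 < m + 3 by omega) (reach_cons ⟨D2, hz, hD2⟩ hq2) hDq2 hw
      exact core_le hD1q (h.mem_core_of_commute (hDq.1 hst) fun e he => hzq w hw e he)
    set U : Subgroup G := zgen k a ⊔ zgen k z
    let T : Subgroup G := Subgroup.normalizer (U : Set G)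
    have hnorm : ∀ g, (∀ w ∈ U, g * w * g⁻¹ ∈ U) → (∀ w ∈ U, g⁻¹ * w * g ∈ U) → g ∈ T := by
      intro g h1 h2
      rw [Subgroup.mem_normalizer_iff]
      exact fun w => ⟨h1 w, fun hw => by simpa [mul_assoc] using h2 _ hw⟩
    have hD2T : D2 ≤ T := by
      have key : ∀ d ∈ D2, ∀ w ∈ U, d * w * d⁻¹ ∈ U := by
        intro d hd w hw
        have hle : U ≤ U.comap (MulAut.conj d).toMonoidHom := sup_le
          (fun v hv => Subgroup.mem_sup_left (h.zgen_conj_mem (hD2.1 hd) hv))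
          (fun v hv => Subgroup.mem_sup_right (h.zgen_conj_mem (hz.1 hd) hv))
        exact hle hw
      exact fun d hd => hnorm d (key d hd) fun w hw => by simpa using key d⁻¹ (inv_mem hd) w hw
    have huT : u ∈ T := by
      have hRU : R ∈ U := Subgroup.mem_sup_left (omegaZ_le_zgen hD0a (h.isR_mem hZ hV hD0a hRa))
      have key : ∀ w ∈ U, u * w * u⁻¹ ∈ U := by
        intro w hw
        have hle : U ≤ U.comap (MulAut.conj u).toMonoidHom := sup_le
          (fun v hv => Subgroup.mem_sup_left (h.zgen_conj_mem (hD0a.1 (hVa' hu)) hv))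
          (fun v hv => by
            show u * v * u⁻¹ ∈ U
            rw [show u * v * u⁻¹ = u * v * u⁻¹ * v⁻¹ * v by group]
            refine mul_mem ?_ (Subgroup.mem_sup_right hv)
            rcases (h.comm_or hZ hV hD1a' hRa' (hVz hv) hu).2 with e | e <;> rw [e]
            · exact one_mem _
            · exact hRU)
        exact hle hw
      refine hnorm u key fun w hw => ?_
      have hui : u⁻¹ = u := inv_eq_of_mul_eq_one_right (zgen_sq hZ hu)
      have := key w hw
      rw [hui] at this ⊢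
      exact this
    intro g hg w hw
    exact ((Subgroup.mem_normalizer_iff).1 (hgen hD2T huT hg) w).1 (Subgroup.mem_sup_right hw)
  -- transport to all edges
  obtain ⟨g, hgx, hgD⟩ := h.syl_transport hD0β hD2
  have hgz : Syl k (g • a) D2 := hgD ▸ syl_cj hD0a
  have := pair_smul h hZ g⁻¹ (hpair _ hgz)
  have hβa : g⁻¹ • a = β := inv_smul_eq_iff.2 hgx.symm
  rwa [inv_smul_smul, hβa] at this

omit h hZ hV [Finite G] in
theorem cen_smul (g : G) {x : Ω} {c : G} (hc : c ∈ cen k x) : g * c * g⁻¹ ∈ cen k (g • x) := by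
  refine mem_cen.2 ⟨cj_zgen g x (mem_cen.1 hc).1, fun u hu => ?_⟩
  have hu' : g⁻¹ * u * g ∈ stabilizer G x := by
    rw [mem_stabilizer_iff, mul_smul, mul_smul, mem_stabilizer_iff.1 hu, inv_smul_smul]
  have e := (mem_cen.1 hc).2 _ hu'
  calc u * (g * c * g⁻¹) = g * ((g⁻¹ * u * g) * c) * g⁻¹ := by group
    _ = g * (c * (g⁻¹ * u * g)) * g⁻¹ := by rw [e]
    _ = g * c * g⁻¹ * u := by group

/-- Two points on a line with the same central commutator coincide. -/
theorem eq_of_same_isR {β a z : Ω} {D : Subgroup G} (hβ : Syl k β D) (ha : Syl k a D) (hz : Syl k z D)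
    {R : G} (hRa : IsR k a D R) (hRz : IsR k z D R) (hR : R ∈ cen k β) : z = a := by
  by_contra hza
  have hR1 := hRa.1
  have hne : ∀ {x}, Syl k x D → IsR k x D R → x ≠ β := by
    intro x hx hxR e
    subst e
    exact h.isR_not_cen hZ hV hx hxR hR
  have haβ := hne ha hRa
  have hzβ := hne hz hRz
  have hcen : ∀ x : Ω, ∃ c ∈ cen (G := G) k x, c ≠ 1 := by
    intro x
    obtain ⟨g, rfl⟩ := h.trans β x
    exact ⟨g * R * g⁻¹, cen_smul g hR, fun e => hR1 (by simpa using e)⟩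
  choose c hc hc1 using hcen
  have heq : ∀ {x y : Ω}, c x = c y → x = y := fun {x y} e => by
    obtain ⟨E, hE⟩ := h.exists_syl x
    exact h.eq_of_central (hc1 x) (hE.1 (h.cen_le hZ hV hE (hc x)).1) (mem_cen.1 (hc x)).2
      (e ▸ (mem_cen.1 (hc y)).2)
  have hline : ∀ w, Syl k w D → w = a ∨ w = β ∨ w = z := by
    intro w hw
    by_contra hcon
    push Not at hcon
    obtain ⟨hwa, hwβ, hwz⟩ := hcon
    classical
    let f : Option {x : Ω // x ∈ ({a, β, z, w} : Finset Ω)} → omegaZ D := fun o =>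
      o.elim 1 fun x => ⟨c x.1, by
        have hx : Syl k x.1 D := by
          have := x.2
          simp only [Finset.mem_insert, Finset.mem_singleton] at this
          rcases this with e | e | e | e <;> rw [e] <;> assumption
        exact h.cen_le hZ hV hx (hc x.1)⟩
    have hf : Function.Injective f := by
      rintro (_ | x) (_ | y) e
      · rfl
      · exact absurd (congrArg Subtype.val e).symm (hc1 y.1)
      · exact absurd (congrArg Subtype.val e) (hc1 x.1)
      · exact congrArg some (Subtype.ext (heq (congrArg Subtype.val e :)))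
    have h1 := Nat.card_le_card_of_injective f hf
    have h2 := h.card_omegaZ hZ hV hβ
    rw [Finite.card_option, Nat.card_eq_finsetCard,
      Finset.card_eq_four.2 ⟨a, β, z, w, haβ, Ne.symm hza, hwa.symm, hzβ.symm, hwβ.symm, hwz.symm, rfl⟩] at h1
    omega
  -- `g` swaps `a` and `z` and fixes `β`
  obtain ⟨g, hgz, hgD⟩ := h.syl_transport ha hz
  have hgR : g * R * g⁻¹ = R := by
    have := isR_smul g hRa
    rw [hgz, hgD] at this
    exact h.isR_unique hZ hV hz this hRz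
  have hsame : ∀ {x y : Ω} {c : G}, c ∈ cen k x → c ∈ cen k y → c ≠ 1 → x = y := fun {x y c} hx hy hc => by
    obtain ⟨E, hE⟩ := h.exists_syl x
    exact h.eq_of_central hc (hE.1 (h.cen_le hZ hV hE hx).1) (mem_cen.1 hx).2 (mem_cen.1 hy).2
  have hgβ : g • β = β := hsame (hgR ▸ cen_smul g hR) hR hR1
  have hgz' : g • z = a := by
    rcases hline (g • z) (hgD ▸ syl_cj hz) with e | e | e
    · exact e
    · exact absurd (MulAction.injective g (e.trans hgβ.symm)) hzβ
    · exact absurd (MulAction.injective g (e.trans hgz.symm)) hza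
  obtain ⟨t, hta, htD⟩ := h.syl_transport ha hβ
  have h2 : IsR k β D (t * R * t⁻¹) := by
    have := isR_smul t hRa
    rwa [hta, htD] at this
  have h2c : t * R * t⁻¹ ∈ cen k (t • β) := cen_smul t hR
  have hg2 : g * (t * R * t⁻¹) * g⁻¹ = t * R * t⁻¹ := by
    have := isR_smul g h2
    rw [hgβ, hgD] at this
    exact h.isR_unique hZ hV hβ this h2
  have hfix : g • t • β = t • β := hsame (hg2 ▸ cen_smul g h2c) h2c h2.1
  rcases hline (t • β) (htD ▸ syl_cj hβ) with e | e | e <;> rw [e] at hfix h2c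
  · exact hza (hgz.symm.trans hfix)
  · exact h.isR_not_cen hZ hV hβ h2 h2c
  · exact hza (hfix.symm.trans hgz')

omit hZ hV in
theorem mem_of_cj_eq {x : Ω} {D : Subgroup G} (hD : Syl k x D) {g : G} (hg : g ∈ stabilizer G x)
    (hgD : cj g D = D) : g ∈ D := by
  by_contra hne
  have hgH : g ∈ Subgroup.normalizer (D : Set G) ⊓ stabilizer G x := ⟨by
    show g ∈ Subgroup.normalizer (D : Set G)
    rw [Subgroup.mem_normalizer_iff]
    intro u
    constructor
    · intro hu; have := conj_mem_cj (g := g) hu; rwa [hgD] at this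
    · intro hu; rw [← hgD, mem_cj] at hu; simpa [mul_assoc] using hu, hg⟩
  have htop := h.eq_of_lt hD (le_inf Subgroup.le_normalizer hD.1) inf_le_right fun e => hne (e ▸ hgH)
  obtain ⟨E, hE, hED⟩ := h.exists_other hD
  obtain ⟨w, hw, rfl⟩ := h.syl_conj hD hE
  refine hED (Subgroup.ext fun u => ?_)
  rw [mem_cj]
  have hw' : w ∈ Subgroup.normalizer (D : Set G) ⊓ stabilizer G x := by rw [htop]; exact hw
  have := Subgroup.mem_normalizer_iff''.1 hw'.1 u
  exact this.symm

omit hZ hV in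
theorem syl_three {x : Ω} {D E F F' : Subgroup G} (hD : Syl k x D) (hE : Syl k x E) (hF : Syl k x F)
    (hF' : Syl k x F') (h1 : D ≠ E) (h2 : D ≠ F) (h3 : D ≠ F') (h4 : E ≠ F) (h5 : E ≠ F') : F = F' := by
  by_contra h6
  let S : Fin 4 → Subgroup G := ![D, E, F, F']
  have hS : ∀ i, ∃ g ∈ stabilizer G x, cj g D = S i := fun i => h.syl_conj hD (by
    fin_cases i <;> assumption)
  choose g hg hgS using hS
  have hinjS : Function.Injective S := by
    intro i j e
    fin_cases i <;> fin_cases j <;> first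
      | rfl
      | exact absurd e (by simp [S, h1, h2, h3, h4, h5, h6, h1.symm, h2.symm, h3.symm, h4.symm, h5.symm, Ne.symm h6])
  let f : Fin 4 × D → stabilizer G x := fun p => ⟨g p.1 * p.2, mul_mem (hg _) (hD.1 p.2.2)⟩
  have hf : Function.Injective f := by
    rintro ⟨i, d⟩ ⟨j, e⟩ he
    have he' : g i * (d : G) = g j * e := congrArg Subtype.val he
    have hij : i = j := hinjS (by
      rw [← hgS i, ← hgS j, ← cj_eq_self d.2, cj_cj, he', ← cj_cj, cj_eq_self e.2, cj_eq_self d.2])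
    subst hij
    exact Prod.ext rfl (Subtype.ext (mul_left_cancel he'))
  have := Nat.card_le_card_of_injective f hf
  rw [Nat.card_prod, Nat.card_fin, hD.2, h.card x] at this
  have := Nat.two_pow_pos k
  omega

/-- Critical distance two is impossible. -/
theorem false_of_two (hmin : ∀ n < 2, ∀ x y : Ω, Reach G k n x y → Comm G k x y) {a a' : Ω}
    (hr : Reach G k 2 a a') (hnc : ¬ Comm G k a a') : False := by
  obtain ⟨β, ⟨D0, hD0a, hD0β⟩, hr'⟩ := reach_head hr
  obtain ⟨a1, ⟨D1, hD1β, hD1a'⟩, p, hp0, hpn, -⟩ := reach_head hr'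
  obtain rfl : a1 = a' := hp0.symm.trans hpn
  have one : ∀ {x y : Ω} {D : Subgroup G}, Syl k x D → Syl k y D → Reach G k 1 x y := fun {x y D} hx hy =>
    reach_cons ⟨D, hx, hy⟩ (reach_zero y)
  have hD01 : D0 ≠ D1 := fun e => hnc (hmin 1 (by omega) a a1 (one hD0a (e ▸ hD1a')))
  have hnear : ∀ {x : Ω} {D E : Subgroup G}, Syl k x D → Syl k β D → Syl k β E →
      zgen (G := G) k x ≤ E := fun {x D E} hx hβ hE => h.near_syl hZ hmin (by omega) (one hx hβ) hE
  obtain ⟨v, hv, u, hu, huv⟩ : ∃ v ∈ zgen (G := G) k a, ∃ u ∈ zgen (G := G) k a1,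
      u * v * u⁻¹ * v⁻¹ ≠ 1 := by
    by_contra hcon
    push Not at hcon
    refine hnc fun v hv u hu => ?_
    have := hcon v hv u hu
    rw [mul_inv_eq_one, mul_inv_eq_iff_eq_mul] at this
    exact this.symm
  set R := u * v * u⁻¹ * v⁻¹ with hR
  have hRa : IsR k a D0 R := ⟨huv, u, hnear hD1a' hD1β hD0β hu, v, hv, rfl⟩
  have hRinv : R⁻¹ = R := inv_eq_of_mul_eq_one_right (h.isR_mem hZ hV hD0a hRa).2.1
  have hRa' : IsR k a1 D1 R := ⟨huv, v, hnear hD0a hD0β hD1β hv, u, hu, by rw [← hRinv, hR]; group⟩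
  have hRc : R ∈ cen k β := h.mem_cen_of_two hZ hV hD0β hD1β hD01 (h.isR_mem hZ hV hD0a hRa)
    (h.isR_mem hZ hV hD1a' hRa')
  -- an element moving the three edges at `β` cyclically
  obtain ⟨σ, hσ, hσ0, hσ1⟩ : ∃ σ ∈ stabilizer G β, cj σ D0 = D1 ∧ cj σ D1 ≠ D0 := by
    obtain ⟨σ, hσ, hσ0⟩ := h.syl_conj hD0β hD1β
    by_cases hσ1 : cj σ D1 = D0
    · obtain ⟨e, he, hec⟩ := h.exists_not_core hD1β
      refine ⟨e * σ, mul_mem (hD1β.1 he) hσ, ?_, fun e' => hec ?_⟩
      · rw [← cj_cj, hσ0, cj_eq_self he]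
      · rw [← cj_cj, hσ1] at e'
        rw [h.core_eq hD1β hD0β hD01.symm]
        exact ⟨he, h.mem_of_cj_eq hD0β (hD1β.1 he) e'⟩
    · exact ⟨σ, hσ, hσ0, hσ1⟩
  set D2 := cj σ D1 with hD2
  have hD2β : Syl k β D2 := syl_cj_stab hσ hD1β
  have hcjinj : ∀ {A B : Subgroup G}, cj σ A = cj σ B → A = B := fun {A B} e => by
    have := congrArg (cj σ⁻¹) e
    rwa [cj_cj, cj_cj, inv_mul_cancel, cj_one, cj_one] at this
  have hD12 : D1 ≠ D2 := fun e => hD01 (hcjinj (hσ0.trans (e.trans hD2)))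
  have hσ2 : cj σ D2 = D0 := by
    refine h.syl_three hD1β hD2β (syl_cj_stab hσ hD2β) hD0β hD12 ?_ hD01.symm ?_ hσ1
    · exact fun e => hσ1 (hcjinj (hσ0.trans e)).symm
    · exact fun e => hD12 (hcjinj (hD2.symm.trans e))
  have hσR : σ * R * σ⁻¹ = R := by rw [(mem_cen.1 hRc).2 σ hσ, mul_inv_cancel_right]
  have hσa : σ • a = a1 := by
    have h1 := isR_smul σ hRa
    rw [hσ0, hσR] at h1
    exact h.eq_of_same_isR hZ hV hD1β hD1a' (hσ0 ▸ syl_cj hD0a) hRa' h1 hRc
  set a3 := σ • a1 with ha3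
  have hD2a3 : Syl k a3 D2 := syl_cj hD1a'
  have hR3 : IsR k a3 D2 R := by
    have h1 := isR_smul σ hRa'
    rwa [hσR] at h1
  have hσa3 : σ • a3 = a := by
    have h1 := isR_smul σ hR3
    rw [hσ2, hσR] at h1
    exact h.eq_of_same_isR hZ hV hD0β hD0a (hσ2 ▸ syl_cj hD2a3) hRa h1 hRc
  -- two non-commuting involutions outside the core at `a`
  set u' := σ * u * σ⁻¹ with hu'def
  set v' := σ * v * σ⁻¹ with hv'def
  have hu' : u' ∈ zgen k a3 := cj_zgen σ a1 hu
  have hv' : v' ∈ zgen k a1 := hσa ▸ cj_zgen σ a hv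
  have huv' : u' * v' * u'⁻¹ * v'⁻¹ = R := by
    rw [hu'def, hv'def, ← hσR, hR]; group
  have hout : ∀ {x z : Ω} {D : Subgroup G} {w : G}, Syl k z D → ¬ Comm G k x z →
      (∀ e ∈ omegaZ D, ∀ t ∈ zgen k x, t * e = e * t) → w ∈ zgen k z → w ∉ omegaZ D →
      w ∉ core k x := by
    intro x z D w hz hxz hcomm hw hwZ hwc
    refine hxz fun t ht w0 hw0 => ?_
    by_cases hw0Z : w0 ∈ omegaZ D
    · exact hcomm w0 hw0Z t ht
    · have h1 := hcomm _ (hV z D hz w hw w0 hw0 hwZ hw0Z) t ht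
      have h2 := zgen_comm_core hZ ht hwc
      apply mul_left_cancel (a := w)
      calc w * (t * w0) = (w * t) * w0 := by group
        _ = t * (w * w0) := by rw [← h2]; group
        _ = w * w0 * t := h1
        _ = w * (w0 * t) := by group
  have hZβ : ∀ {D : Subgroup G}, Syl k β D → ∀ e ∈ omegaZ D, ∀ t ∈ zgen k a, t * e = e * t :=
    fun {D} hD e he t ht => hmin 1 (by omega) a β (one hD0a hD0β) t ht e (omegaZ_le_zgen hD he)
  have hv'c : v' ∉ core k a := by
    refine hout hD1a' hnc (hZβ hD1β) hv' fun hc => huv ?_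
    have := hc.2.2 u' (hnear hD2a3 hD2β hD1β hu')
    rw [← this, mul_inv_cancel_right, mul_inv_cancel] at huv'
    exact huv'.symm
  have hu'c : u' ∉ core k a := by
    have hnc3 : ¬ Comm G k a a3 := by
      intro hc
      have hm1 : σ * u' * σ⁻¹ ∈ zgen k a := hσa3 ▸ cj_zgen σ a3 hu'
      have hm2 : σ * v' * σ⁻¹ ∈ zgen k a3 := cj_zgen σ a1 hv'
      have e := hc _ hm1 _ hm2
      refine huv ?_
      calc R = σ * (u' * v' * u'⁻¹ * v'⁻¹) * σ⁻¹ := by rw [huv', hσR]
        _ = σ * u' * σ⁻¹ * (σ * v' * σ⁻¹) * (σ * u' * σ⁻¹)⁻¹ * (σ * v' * σ⁻¹)⁻¹ := by group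
        _ = 1 := by rw [e]; group
    refine hout hD2a3 hnc3 (hZβ hD2β) hu' fun hc => huv ?_
    have := hc.2.2 v' (hnear hD1a' hD1β hD2β hv')
    rw [this, mul_inv_cancel_right, mul_inv_cancel] at huv'
    exact huv'.symm
  have hu'0 : u' ∈ D0 := hnear hD2a3 hD2β hD0β hu'
  have hv'0 : v' ∈ D0 := hnear hD1a' hD1β hD0β hv'
  have hx0 : u' * v' ∈ core k a := h.mul_mem_core hD0a u' hu'0 v' hv'0 hu'c hv'c
  have hx0β : u' * v' ∈ core k β := mul_mem
    (h.near_core hZ hmin (by omega) (one hD2a3 hD2β) hu')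
    (h.near_core hZ hmin (by omega) (one hD1a' hD1β) hv')
  have hx0sq : u' * v' * (u' * v') = R :=
    (comm_mul_cancel (zgen_sq hZ hu') (zgen_sq hZ hv')).trans huv'
  -- squares of the core at `β`
  have hle : sq (core (G := G) k β) ≤ sq (core k a) := by
    refine sq_le fun c hc => ?_
    by_cases hca : c ∈ core k a
    · exact mem_sq hca
    set x := c * v'
    have hxa : x ∈ core k a := h.mul_mem_core hD0a c (core_le hD0β hc) v' hv'0 hca hv'c
    have hxβ : x ∈ core k β := mul_mem hc (h.near_core hZ hmin (by omega) (one hD1a' hD1β) hv')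
    have hxD1 : x ∈ D1 := core_le hD1β hxβ
    have hvv := zgen_sq hZ hv'
    have hcx : c * c = x * (v' * x * v'⁻¹ * x⁻¹) * x := by
      have : c = x * v' := by rw [show x = c * v' from rfl, mul_assoc, hvv, mul_one]
      rw [inv_eq_of_mul_eq_one_right hvv]
      conv_lhs => rw [this]
      group
    rw [hcx]
    rcases (h.comm_or hZ hV hD1a' hRa' hxD1 hv').2 with e | e <;> rw [e]
    · rw [mul_one]; exact mem_sq hxa
    · rw [← (h.isR_mem hZ hV hD1a' hRa').2.2 x hxD1, mul_assoc]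
      exact mul_mem (hx0sq ▸ mem_sq hx0) (mem_sq hxa)
  have hβa : β ≠ a := fun e => hnc (hmin 1 (by omega) a a1 (e ▸ hr'))
  have hbot := h.sq_core_eq_bot hβa hle
  exact huv ((Subgroup.eq_bot_iff_forall _).1 hbot R (hx0sq ▸ mem_sq hx0β))

end Setup

/-- The order of a Sylow subgroup of a point stabiliser is at most 16. -/
theorem Setup.two_pow_le (h : Setup G Ω k) (x : Ω) : 2 ^ k ≤ 16 := by
  classical
  by_cases hZ : ∀ (x : Ω) (D : Subgroup G), Syl k x D → omegaZ D ≤ core k x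
  swap
  · push Not at hZ
    obtain ⟨y, D, hD, hle⟩ := hZ
    obtain ⟨z, hz, hzc⟩ := Set.not_subset.1 hle
    have := h.le_four_of_not_le hD hz hzc
    omega
  obtain ⟨n₀, y₀, z₀, h₀⟩ := h.exists_not_comm hZ x
  have hex : ∃ n, ∃ y z : Ω, Reach G k n y z ∧ ¬ Comm G k y z := ⟨n₀, y₀, z₀, h₀⟩
  obtain ⟨a, a', hr, hnc⟩ := Nat.find_spec hex
  have hmin : ∀ n < Nat.find hex, ∀ x y : Ω, Reach G k n x y → Comm G k x y := fun n hn x y hxy => by
    by_contra hc
    exact Nat.find_min hex hn ⟨x, y, hxy, hc⟩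
  generalize Nat.find hex = b at hr hmin
  have hV := h.offender hZ hmin hr hnc
  rcases b with _ | _ | _ | m
  · obtain ⟨p, h0, hn, -⟩ := hr
    exact absurd (Setup.comm_self hZ a) (by rw [← hn, h0] at hnc; exact hnc)
  · obtain ⟨z, hs, p, h0, hn, -⟩ := Setup.reach_head hr
    exact h.le_sixteen_of_adjacent hZ hV (hn ▸ h0.symm ▸ hs) hnc
  · exact (h.false_of_two hZ hV hmin hr hnc).elim
  · exact (h.false_of_three_le hZ hV hmin hr hnc).elim

end Cfsg.Agent.SimsThree
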