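import Cfsg.Agent.SimsThree.Basic

/-! The structure of one point stabiliser. -/

set_option autoImplicit false

namespace Cfsg.Agent.SimsThree

open MulAction

variable {G Ω : Type*} [Group G] [Finite G] [MulAction G Ω] {k : ℕ}

namespace Setup

variable (h : Setup G Ω k)
include h

theorem exists_syl (x : Ω) : ∃ D : Subgroup G, Syl k x D := by
  haveI := Fact.mk Nat.prime_two
  obtain ⟨S, hS⟩ := Sylow.exists_subgroup_card_pow_prime (G := stabilizer G x) 2
    (n := k) (by rw [h.card x]; exact dvd_mul_left _ 3)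
  exact ⟨S.map (stabilizer G x).subtype, Subgroup.map_subtype_le _,
    by rw [Subgroup.card_map_of_injective (stabilizer G x).subtype_injective, hS]⟩

theorem syl_conj {x : Ω} {D E : Subgroup G} (hD : Syl k x D) (hE : Syl k x E) :
    ∃ g ∈ stabilizer G x, cj g D = E := by
  haveI := Fact.mk Nat.prime_two
  set M := stabilizer G x
  have hf : (Nat.card M).factorization 2 = k := by
    rw [h.card x, Nat.factorization_mul (by norm_num) (by positivity), Finsupp.add_apply,
      Nat.Prime.factorization_pow Nat.prime_two, Finsupp.single_eq_same,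
      Nat.factorization_eq_zero_of_not_dvd (by norm_num : ¬ 2 ∣ 3), zero_add]
  have hsyl : ∀ {S : Subgroup G}, Syl k x S → Nat.card (S.subgroupOf M) = 2 ^ (Nat.card M).factorization 2 :=
    fun {S} hS => by rw [hf, Nat.card_congr (Subgroup.subgroupOfEquivOfLe hS.1).toEquiv, hS.2]
  obtain ⟨g, hg⟩ := MulAction.exists_smul_eq M (Sylow.ofCard (D.subgroupOf M) (hsyl hD))
    (Sylow.ofCard (E.subgroupOf M) (hsyl hE))
  have hg' : (D.subgroupOf M).map (MulAut.conj g).toMonoidHom = E.subgroupOf M := by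
    have := congrArg (fun S : Sylow 2 M => (S : Subgroup M)) hg
    exact this
  refine ⟨g, g.2, ?_⟩
  ext u
  constructor
  · rintro ⟨d, hd, rfl⟩
    have : g * (⟨d, hD.1 hd⟩ : M) * g⁻¹ ∈ E.subgroupOf M := by
      rw [← hg']
      exact ⟨⟨d, hD.1 hd⟩, hd, rfl⟩
    exact this
  · intro hu
    have : (⟨u, hE.1 hu⟩ : M) ∈ (D.subgroupOf M).map (MulAut.conj g).toMonoidHom := hg'.symm ▸ hu
    obtain ⟨d, hd, hde⟩ := this
    exact ⟨d, hd, congrArg Subtype.val hde⟩

/-- Some element conjugates one configuration to another. -/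
theorem syl_transport {x y : Ω} {D E : Subgroup G} (hD : Syl k x D) (hE : Syl k y E) :
    ∃ g : G, g • x = y ∧ cj g D = E := by
  obtain ⟨g, hg⟩ := h.trans x y
  obtain ⟨g', hg', hge⟩ := h.syl_conj (hg ▸ syl_cj (g := g) hD) hE
  exact ⟨g' * g, by rw [mul_smul, hg]; exact hg', by rw [← cj_cj, hge]⟩

omit [Finite G] in
theorem eq_of_le {x y : Ω} (hle : stabilizer G x ≤ stabilizer G y) : x = y := by
  rcases h.max x _ hle with e | e
  · exact h.inj x y e.symm
  · rcases h.max y ⊤ le_top with e' | e'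
    · exfalso
      have h3 := h.card x
      have h4 := h.card y
      have hx : Nat.card (stabilizer G x) ≤ Nat.card (stabilizer G y) := by rw [h3, h4]
      have hy : ∀ u : Ω, stabilizer G u = ⊤ := fun u => by
        obtain ⟨g, rfl⟩ := h.trans y u
        refine eq_top_iff.2 fun v _ => ?_
        have : g⁻¹ * v * g ∈ stabilizer G y := e.symm ▸ Subgroup.mem_top _
        rw [mem_stabilizer_iff, mul_smul, mul_smul, inv_smul_eq_iff] at this
        exact this
      have hone : ∀ g : G, g = 1 := fun g => h.faith g fun u => by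
        have : g ∈ stabilizer G u := (hy u).symm ▸ Subgroup.mem_top _
        exact this
      have : Nat.card (stabilizer G x) = 1 := Nat.card_eq_one_iff_unique.2
        ⟨⟨fun a b => Subtype.ext ((hone _).trans (hone _).symm)⟩, ⟨1⟩⟩
      rw [h3] at this
      have := Nat.one_le_two_pow (n := k)
      omega
    · exact h.inj x y (by
        rw [e]
        refine eq_top_iff.2 ?_
        intro v _
        obtain ⟨g, hg⟩ := h.trans y x
        have : g⁻¹ * v * g ∈ stabilizer G y := e.symm ▸ Subgroup.mem_top _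
        rw [mem_stabilizer_iff, mul_smul, mul_smul, inv_smul_eq_iff, hg] at this
        exact this)

omit [Finite G] in
/-- The fixed point sets: two points of the fixed set of a Sylow subgroup have it as intersection. -/
theorem eq_top_of_two {x y : Ω} (hxy : x ≠ y) {H : Subgroup G} (hx : stabilizer G x ≤ H)
    (hy : stabilizer G y ≤ H) : H = ⊤ :=
  (h.max x H hx).resolve_left fun e => hxy (h.eq_of_le (e ▸ hy)).symm

theorem eq_of_lt {x : Ω} {D H : Subgroup G} (hD : Syl k x D) (hle : D ≤ H) (hH : H ≤ stabilizer G x)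
    (hne : H ≠ D) : H = stabilizer G x := by
  obtain ⟨i, hi⟩ := Subgroup.card_dvd_of_le hle
  obtain ⟨j, hj⟩ := Subgroup.card_dvd_of_le hH
  rw [hD.2] at hi
  rw [h.card x, hi, mul_assoc, mul_comm 3] at hj
  have hij := Nat.eq_of_mul_eq_mul_left (Nat.two_pow_pos k) hj
  rcases (Nat.dvd_prime Nat.prime_three).1 (Dvd.intro j hij.symm) with rfl | rfl
  · exact absurd (Subgroup.eq_of_le_of_card_ge hle (by rw [hD.2, hi, mul_one])).symm hne
  · exact Subgroup.eq_of_le_of_card_ge hH (by rw [h.card x, hi, mul_comm])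

theorem exists_other {x : Ω} {D : Subgroup G} (hD : Syl k x D) :
    ∃ E : Subgroup G, Syl k x E ∧ E ≠ D := by
  by_contra hcon
  push Not at hcon
  obtain ⟨y, hyx, hy⟩ := h.edge x D hD.1 hD.2
  have hyD : Syl k y D := ⟨hy, hD.2⟩
  obtain ⟨g, hgx, hgD⟩ := h.syl_transport hD hyD
  have hcon' : ∀ E, Syl k y E → E = D := fun E hE => by
    have h1 := syl_cj (g := g⁻¹) hE
    rw [← hgx, inv_smul_smul] at h1
    have h2 := hcon _ h1
    rw [← hgD, ← h2, cj_cj, mul_inv_cancel, cj_one]
  have hnorm : ∀ z : Ω, (∀ E, Syl k z E → E = D) → Syl k z D →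
      stabilizer G z ≤ Subgroup.normalizer (D : Set G) := by
    intro z hz hzD u hu
    have := hz _ (syl_cj_stab (g := u) hu hzD)
    rw [Subgroup.mem_normalizer_iff]
    intro v
    constructor
    · intro hv; rw [← this]; exact conj_mem_cj hv
    · intro hv
      rw [← this, mem_cj] at hv
      simpa [mul_assoc] using hv
  have htop := h.eq_top_of_two hyx.symm (hnorm x hcon hD) (hnorm y hcon' hyD)
  haveI : D.Normal := Subgroup.normalizer_eq_top_iff.1 htop
  have hbot : D = ⊥ := (Subgroup.eq_bot_iff_forall _).2 fun u hu => h.faith u fun z => by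
    obtain ⟨g, rfl⟩ := h.trans x z
    have : g⁻¹ * u * g ∈ stabilizer G x := hD.1 (by simpa using ‹D.Normal›.conj_mem' u hu g)
    rw [mem_stabilizer_iff, mul_smul, mul_smul, inv_smul_eq_iff] at this
    exact this
  have h2 := hD.2
  rw [hbot, Subgroup.card_bot] at h2
  have := Nat.one_lt_two_pow h.pos.ne'
  omega

theorem sup_eq {x : Ω} {D E : Subgroup G} (hD : Syl k x D) (hE : Syl k x E) (hne : D ≠ E) :
    D ⊔ E = stabilizer G x := by
  refine h.eq_of_lt hD le_sup_left (sup_le hD.1 hE.1) fun e => hne ?_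
  exact (Subgroup.eq_of_le_of_card_ge (e ▸ le_sup_right : E ≤ D) (by rw [hD.2, hE.2])).symm

theorem mul_mem_inf {x : Ω} {D E : Subgroup G} (hD : Syl k x D) (hE : Syl k x E) (hne : D ≠ E) :
    ∀ a ∈ D, ∀ b ∈ D, a ∉ D ⊓ E → b ∉ D ⊓ E → a * b ∈ D ⊓ E := by
  classical
  set I := (D ⊓ E : Subgroup G) with hI
  obtain ⟨j, hjk, hj⟩ := (Nat.dvd_prime_pow Nat.prime_two).1
    (hD.2 ▸ Subgroup.card_dvd_of_le (inf_le_left : D ⊓ E ≤ D))
  have hlt : j < k := by
    rcases hjk.lt_or_eq with h1 | rfl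
    · exact h1
    · exfalso
      have h1 : D ⊓ E = D := Subgroup.eq_of_le_of_card_ge inf_le_left (by rw [hD.2, hj])
      exact hne (Subgroup.eq_of_le_of_card_ge (h1 ▸ inf_le_right) (by rw [hD.2, hE.2]))
  -- the product set has at most `3 * 2 ^ k` elements
  have hidx : Nat.card D ≤ 2 * Nat.card I := by
    let M := stabilizer G x
    let f : D × E → M × I := fun p =>
      let m : M := ⟨(p.1 : G) * p.2, M.mul_mem (hD.1 p.1.2) (hE.1 p.2.2)⟩
      let c : D × E := Classical.choose (⟨p, rfl⟩ : ∃ q : D × E, (q.1 : G) * q.2 = (m : G))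
      (m, ⟨(c.1 : G)⁻¹ * p.1, by
        have e : (c.1 : G) * c.2 = (p.1 : G) * p.2 :=
          Classical.choose_spec (⟨p, rfl⟩ : ∃ q : D × E, (q.1 : G) * q.2 = (m : G))
        refine ⟨D.mul_mem (D.inv_mem c.1.2) p.1.2, ?_⟩
        have e' : (c.1 : G)⁻¹ * p.1 = (c.2 : G) * (p.2 : G)⁻¹ := by
          rw [eq_mul_inv_iff_mul_eq, mul_assoc, inv_mul_eq_iff_eq_mul]; exact e.symm
        rw [e']
        exact E.mul_mem c.2.2 (E.inv_mem p.2.2)⟩)
    have hinj : Function.Injective f := by
      rintro ⟨a, b⟩ ⟨a', b'⟩ e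
      obtain ⟨e1, e2⟩ := Prod.ext_iff.1 e
      have e1' : (a : G) * b = (a' : G) * b' := congrArg Subtype.val e1
      have e2' := congrArg Subtype.val e2
      simp only [f] at e2'
      simp only [e1'] at e2'
      have ha : (a : G) = a' := mul_left_cancel e2'
      refine Prod.ext (Subtype.ext ha) (Subtype.ext ?_)
      rw [ha] at e1'
      exact mul_left_cancel e1'
    have h1 := Nat.card_le_card_of_injective f hinj
    rw [Nat.card_prod, Nat.card_prod, hD.2, hE.2, h.card x, hj] at h1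
    rw [hD.2, hj]
    have h2 : 2 ^ k ≤ 3 * 2 ^ j := Nat.le_of_mul_le_mul_left (c := 2 ^ k) (by
      rw [show 2 ^ k * (3 * 2 ^ j) = 3 * 2 ^ k * 2 ^ j by ring]; exact h1) (Nat.two_pow_pos k)
    by_contra hbig
    have : j + 2 ≤ k := by
      by_contra hc
      have : k = j + 1 := by omega
      subst this
      rw [pow_succ] at hbig
      omega
    have := Nat.pow_le_pow_right (show 0 < 2 by norm_num) this
    rw [pow_add] at this
    have := Nat.two_pow_pos j
    omega
  intro a ha b hb ha' hb'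
  have hidx2 : (I.subgroupOf D).index = 2 := by
    have h3 := Subgroup.card_mul_index (I.subgroupOf D)
    rw [Nat.card_congr (Subgroup.subgroupOfEquivOfLe inf_le_left).toEquiv, hj, hD.2] at h3
    rw [hD.2, hj] at hidx
    obtain ⟨i, rfl⟩ : ∃ i, k = j + 1 + i := ⟨k - (j + 1), by omega⟩
    have h4 : 2 ^ (1 + i) ≤ 2 ^ 1 := by
      refine Nat.le_of_mul_le_mul_left (c := 2 ^ j) ?_ (Nat.two_pow_pos j)
      rw [← pow_add, ← pow_add, ← add_assoc]
      calc 2 ^ (j + 1 + i) ≤ 2 * 2 ^ j := hidx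
        _ = 2 ^ (j + 1) := by ring
    have hi : i = 0 := by
      have := (Nat.pow_le_pow_iff_right (show 1 < 2 by norm_num)).1 h4
      omega
    subst hi
    rw [add_zero, pow_succ] at h3
    exact Nat.eq_of_mul_eq_mul_left (Nat.two_pow_pos j) h3
  have h5 := (Subgroup.mul_mem_iff_of_index_two hidx2 (a := (⟨a, ha⟩ : D)) (b := ⟨b, hb⟩)).2
    (iff_of_false ha' hb')
  exact h5

theorem core_eq {x : Ω} {D E : Subgroup G} (hD : Syl k x D) (hE : Syl k x E) (hne : D ≠ E) :
    core k x = D ⊓ E := by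
  refine le_antisymm (le_inf (core_le hD) (core_le hE)) ?_
  refine le_iInf fun F => ?_
  obtain ⟨g, hg, hgF⟩ := h.syl_conj hD F.2
  have hn : ∀ {A B : Subgroup G}, Syl k x A → Syl k x B → A ≠ B →
      ∀ a ∈ A, ∀ u ∈ A ⊓ B, a * u * a⁻¹ ∈ A ⊓ B := by
    intro A B hA hB hAB a ha u hu
    by_cases haI : a ∈ A ⊓ B
    · exact mul_mem (mul_mem haI hu) (inv_mem haI)
    by_contra hc
    have h1 := h.mul_mem_inf hA hB hAB (a * u * a⁻¹) (mul_mem (mul_mem ha hu.1) (inv_mem ha)) a ha hc haI
    rw [inv_mul_cancel_right] at h1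
    exact haI (by simpa [← mul_assoc] using mul_mem h1 (inv_mem hu))
  have hnorm : stabilizer G x ≤ Subgroup.normalizer ((D ⊓ E : Subgroup G) : Set G) := by
    rw [← h.sup_eq hD hE hne]
    refine sup_le ?_ ?_
    · intro a ha
      rw [Subgroup.mem_normalizer_iff]
      refine fun u => ⟨hn hD hE hne a ha u, fun hu => ?_⟩
      simpa [mul_assoc] using hn hD hE hne a⁻¹ (inv_mem ha) _ hu
    · intro a ha
      rw [Subgroup.mem_normalizer_iff, inf_comm]
      refine fun u => ⟨hn hE hD hne.symm a ha u, fun hu => ?_⟩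
      simpa [mul_assoc] using hn hE hD hne.symm a⁻¹ (inv_mem ha) _ hu
  intro u hu
  rw [← hgF, mem_cj]
  exact (((Subgroup.mem_normalizer_iff'').1 (hnorm hg) u).1 hu).1

theorem mul_mem_core {x : Ω} {D : Subgroup G} (hD : Syl k x D) :
    ∀ a ∈ D, ∀ b ∈ D, a ∉ core k x → b ∉ core k x → a * b ∈ core k x := by
  obtain ⟨E, hE, hne⟩ := h.exists_other hD
  rw [h.core_eq hD hE hne.symm]
  exact h.mul_mem_inf hD hE hne.symm

theorem exists_not_core {x : Ω} {D : Subgroup G} (hD : Syl k x D) : ∃ d ∈ D, d ∉ core k x := by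
  obtain ⟨E, hE, hne⟩ := h.exists_other hD
  by_contra hcon
  push Not at hcon
  have h1 : D ≤ E := fun d hd => by
    have := hcon d hd
    rw [h.core_eq hD hE hne.symm] at this
    exact this.2
  exact hne (Subgroup.eq_of_le_of_card_ge h1 (by rw [hD.2, hE.2])).symm

omit [Finite G] in
theorem core_conj_mem {x : Ω} {g u : G} (hg : g • x = x) (hu : u ∈ core k x) :
    g * u * g⁻¹ ∈ core k x := by
  have := cj_core (k := k) g x hu
  rwa [hg] at this

omit [Finite G] in
theorem zgen_conj_mem {x : Ω} {g u : G} (hg : g • x = x) (hu : u ∈ zgen k x) :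
    g * u * g⁻¹ ∈ zgen k x := by
  have := cj_zgen (k := k) g x hu
  rwa [hg] at this

theorem stabilizer_inf {x y : Ω} (hxy : x ≠ y) {D : Subgroup G} (hx : Syl k x D) (hy : Syl k y D) :
    stabilizer G x ⊓ stabilizer G y = D := by
  by_contra hne
  have := h.eq_of_lt hx (le_inf hx.1 hy.1) inf_le_left hne
  exact hxy (h.eq_of_le (inf_eq_left.1 this))

omit [Finite G] in
/-- An element of the centre of a point stabiliser has the stabiliser as centraliser. -/
theorem mem_of_commute {x : Ω} {c g : G} (hc1 : c ≠ 1) (hcx : c ∈ stabilizer G x)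
    (hc : ∀ u ∈ stabilizer G x, u * c = c * u) (hg : g * c = c * g) : g ∈ stabilizer G x := by
  rcases h.max x (Subgroup.centralizer {c}) (fun u hu =>
    Subgroup.mem_centralizer_singleton_iff.2 (hc u hu)) with e | e
  · rw [← e]; exact Subgroup.mem_centralizer_singleton_iff.2 hg
  · exfalso
    refine hc1 (h.faith c fun z => ?_)
    obtain ⟨w, rfl⟩ := h.trans x z
    have : w ∈ Subgroup.centralizer {c} := e.symm ▸ Subgroup.mem_top w
    rw [← mul_smul, ← Subgroup.mem_centralizer_singleton_iff.1 this, mul_smul, mem_stabilizer_iff.1 hcx]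

omit [Finite G] in
theorem eq_of_central {x y : Ω} {c : G} (hc1 : c ≠ 1) (hcx : c ∈ stabilizer G x)
    (hx : ∀ u ∈ stabilizer G x, u * c = c * u) (hy : ∀ u ∈ stabilizer G y, u * c = c * u) : x = y :=
  (h.eq_of_le fun u hu => h.mem_of_commute hc1 hcx hx (hy u hu)).symm

/-- No subgroup of a common Sylow subgroup is normalised by both stabilisers. -/
theorem eq_bot_of_normalized {x y : Ω} (hxy : x ≠ y) {H : Subgroup G} (hH : H ≤ stabilizer G x)
    (hx : ∀ g ∈ stabilizer G x, ∀ u ∈ H, g * u * g⁻¹ ∈ H)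
    (hy : ∀ g ∈ stabilizer G y, ∀ u ∈ H, g * u * g⁻¹ ∈ H) : H = ⊥ := by
  have hn : ∀ z : Ω, (∀ g ∈ stabilizer G z, ∀ u ∈ H, g * u * g⁻¹ ∈ H) →
      stabilizer G z ≤ Subgroup.normalizer (H : Set G) := by
    intro z hz g hg
    rw [Subgroup.mem_normalizer_iff]
    refine fun u => ⟨hz g hg u, fun hu => ?_⟩
    simpa [mul_assoc] using hz g⁻¹ (inv_mem hg) _ hu
  haveI : H.Normal := Subgroup.normalizer_eq_top_iff.1 (h.eq_top_of_two hxy (hn x hx) (hn y hy))
  refine (Subgroup.eq_bot_iff_forall _).2 fun u hu => h.faith u fun z => ?_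
  obtain ⟨g, rfl⟩ := h.trans x z
  have : g⁻¹ * u * g ∈ stabilizer G x := hH (by simpa using ‹H.Normal›.conj_mem' u hu g)
  rw [mem_stabilizer_iff, mul_smul, mul_smul, inv_smul_eq_iff] at this
  exact this

omit [Finite G] in
theorem sq_core_conj {x : Ω} {g u : G} (hg : g • x = x) (hu : u ∈ sq (core k x)) :
    g * u * g⁻¹ ∈ sq (core k x) := by
  have : sq (core k x) ≤ (sq (core k x)).comap (MulAut.conj g).toMonoidHom :=
    sq_le fun v hv => by
      show g * (v * v) * g⁻¹ ∈ sq (core k x)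
      rw [show g * (v * v) * g⁻¹ = g * v * g⁻¹ * (g * v * g⁻¹) by group]
      exact mem_sq (h.core_conj_mem hg hv)
  exact this hu

theorem card_sq_core (x y : Ω) : Nat.card (sq (core (G := G) k x)) = Nat.card (sq (core (G := G) k y)) := by
  have key : ∀ x y : Ω, Nat.card (sq (core (G := G) k x)) ≤ Nat.card (sq (core (G := G) k y)) := by
    intro x y
    obtain ⟨g, rfl⟩ := h.trans x y
    rw [← card_cj g (sq (core k x))]
    refine Subgroup.card_le_of_le ?_
    intro u hu
    have : sq (core k x) ≤ (sq (core k (g • x))).comap (MulAut.conj g).toMonoidHom :=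
      sq_le fun v hv => by
        show g * (v * v) * g⁻¹ ∈ sq (core k (g • x))
        rw [show g * (v * v) * g⁻¹ = g * v * g⁻¹ * (g * v * g⁻¹) by group]
        exact mem_sq (cj_core g x hv)
    obtain ⟨v, hv, rfl⟩ := hu
    exact this hv
  exact le_antisymm (key x y) (key y x)

/-- Cores of two points with the same squares have trivial squares. -/
theorem sq_core_eq_bot {x y : Ω} (hxy : x ≠ y) (hle : sq (core (G := G) k x) ≤ sq (core k y)) :
    sq (core (G := G) k x) = ⊥ := by
  obtain ⟨D, hD⟩ := h.exists_syl x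
  have heq := Subgroup.eq_of_le_of_card_ge hle (le_of_eq (h.card_sq_core y x))
  refine h.eq_bot_of_normalized hxy
    (((sq_le fun u hu => mul_mem hu hu).trans (core_le hD)).trans hD.1)
    (fun g hg u hu => h.sq_core_conj hg hu) (fun g hg u hu => ?_)
  rw [heq] at hu ⊢
  exact h.sq_core_conj hg hu

end Setup

end Cfsg.Agent.SimsThree
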