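import Cfsg.Agent.SimsThree.Local
import Mathlib.GroupTheory.PGroup

/-! The bound `|D| ≤ 16` for a Sylow 2-subgroup of a point stabiliser. -/

set_option autoImplicit false

namespace Cfsg.Agent.SimsThree

open MulAction

variable {G Ω : Type*} [Group G] [Finite G] [MulAction G Ω] {k : ℕ}

section

variable (G) (k)

/-- Two points sharing a Sylow subgroup. -/
def Step (x y : Ω) : Prop := ∃ D : Subgroup G, Syl k x D ∧ Syl k y D

/-- Points joined by a path of the given length. -/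
def Reach (n : ℕ) (x y : Ω) : Prop :=
  ∃ p : ℕ → Ω, p 0 = x ∧ p n = y ∧ ∀ i < n, Step G k (p i) (p (i + 1))

/-- The two abelian subgroups commute. -/
def Comm (x y : Ω) : Prop :=
  ∀ u ∈ zgen (G := G) k x, ∀ w ∈ zgen (G := G) k y, u * w = w * u

/-- The two subgroups together are normal in the stabiliser of the first point. -/
def Pair (x z : Ω) : Prop :=
  ∀ g ∈ stabilizer G x, ∀ u ∈ zgen (G := G) k z, g * u * g⁻¹ ∈ zgen (G := G) k x ⊔ zgen k z

end

/-- The non-trivial commutator of a Sylow subgroup with the abelian subgroup. -/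
def IsR (k : ℕ) (x : Ω) (D : Subgroup G) (r : G) : Prop :=
  r ≠ 1 ∧ ∃ d ∈ D, ∃ v ∈ zgen k x, d * v * d⁻¹ * v⁻¹ = r

/-- The centre part of the abelian subgroup. -/
def cen (k : ℕ) (x : Ω) : Subgroup G :=
  zgen k x ⊓ Subgroup.centralizer (stabilizer G x : Set G)

omit [Finite G] in
theorem mem_cen {x : Ω} {c : G} :
    c ∈ cen k x ↔ c ∈ zgen k x ∧ ∀ u ∈ stabilizer G x, u * c = c * u := by
  rw [cen, Subgroup.mem_inf, Subgroup.mem_centralizer_iff]; rfl

omit [Finite G] in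
theorem comm_mul_cancel {u v : G} (hu : u * u = 1) (hv : v * v = 1) :
    u * v * (u * v) = u * v * u⁻¹ * v⁻¹ := by
  rw [inv_eq_of_mul_eq_one_right hu, inv_eq_of_mul_eq_one_right hv]; group

namespace Setup

variable (h : Setup G Ω k)
include h

theorem step_refl (x : Ω) : Step G k x x := by
  obtain ⟨D, hD⟩ := h.exists_syl x
  exact ⟨D, hD, hD⟩

omit h [Finite G] in
theorem step_symm {x y : Ω} : Step G k x y → Step G k y x := fun ⟨D, h1, h2⟩ => ⟨D, h2, h1⟩

omit h [Finite G] in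
theorem step_smul (g : G) {x y : Ω} : Step G k x y → Step G k (g • x) (g • y) :=
  fun ⟨D, h1, h2⟩ => ⟨cj g D, syl_cj h1, syl_cj h2⟩

omit h [Finite G] in
theorem reach_zero (x : Ω) : Reach G k 0 x x := ⟨fun _ => x, rfl, rfl, fun i hi => absurd hi (by omega)⟩

omit h [Finite G] in
theorem reach_smul (g : G) {n : ℕ} {x y : Ω} : Reach G k n x y → Reach G k n (g • x) (g • y) :=
  fun ⟨p, h0, hn, hp⟩ => ⟨fun i => g • p i, by simp [h0], by simp [hn], fun i hi => step_smul g (hp i hi)⟩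

omit h [Finite G] in
theorem reach_symm {n : ℕ} {x y : Ω} : Reach G k n x y → Reach G k n y x := by
  rintro ⟨p, h0, hn, hp⟩
  refine ⟨fun i => p (n - i), by simpa using hn, by simpa using h0, fun i hi => ?_⟩
  have := step_symm (hp (n - (i + 1)) (by omega))
  rwa [show n - (i + 1) + 1 = n - i by omega] at this

omit h [Finite G] in
theorem reach_cons {n : ℕ} {x z y : Ω} (hxz : Step G k x z) : Reach G k n z y → Reach G k (n + 1) x y := by
  rintro ⟨p, h0, hn, hp⟩
  refine ⟨fun i => if i = 0 then x else p (i - 1), by simp, by simpa using hn, fun i hi => ?_⟩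
  rcases i with _ | i
  · simpa [h0] using hxz
  · simpa using hp i (by omega)

omit h [Finite G] in
theorem reach_snoc {n : ℕ} {x z y : Ω} (hxz : Reach G k n x z) (hzy : Step G k z y) :
    Reach G k (n + 1) x y :=
  reach_symm (reach_cons (step_symm hzy) (reach_symm hxz))

theorem reach_mono {n m : ℕ} (hnm : n ≤ m) {x y : Ω} (hr : Reach G k n x y) : Reach G k m x y := by
  induction hnm with
  | refl => exact hr
  | step _ ih => exact reach_snoc ih (h.step_refl y)

omit h [Finite G] in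
theorem reach_head {n : ℕ} {x y : Ω} :
    Reach G k (n + 1) x y → ∃ z, Step G k x z ∧ Reach G k n z y := by
  rintro ⟨p, h0, hn, hp⟩
  exact ⟨p 1, h0 ▸ hp 0 (by omega), fun i => p (i + 1), rfl, hn, fun i hi => hp (i + 1) (by omega)⟩

omit h [Finite G] in
theorem reach_last {n : ℕ} {x y : Ω} :
    Reach G k (n + 1) x y → ∃ z, Reach G k n x z ∧ Step G k z y := by
  intro hr
  obtain ⟨z, hz, hr'⟩ := reach_head (reach_symm hr)
  exact ⟨z, reach_symm hr', step_symm hz⟩

omit h [Finite G] in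
theorem comm_symm {x y : Ω} (hc : Comm G k x y) : Comm G k y x := fun u hu w hw => (hc w hw u hu).symm

theorem exists_omegaZ_ne_one {x : Ω} {D : Subgroup G} (hD : Syl k x D) : ∃ z ∈ omegaZ D, z ≠ 1 := by
  haveI := Fact.mk Nat.prime_two
  have hP : IsPGroup 2 D := IsPGroup.of_card hD.2
  haveI : Nontrivial D := Finite.one_lt_card_iff_nontrivial.1 (hD.2 ▸ Nat.one_lt_two_pow h.pos.ne')
  haveI := hP.center_nontrivial
  obtain ⟨j, hj⟩ := (hP.to_subgroup (Subgroup.center D)).exists_card_eq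
  have hj0 : j ≠ 0 := fun e => by
    rw [e, pow_zero] at hj
    exact absurd hj (Finite.one_lt_card (α := Subgroup.center D)).ne'
  obtain ⟨z, hz⟩ := exists_prime_orderOf_dvd_card' (G := Subgroup.center D) 2
    (hj ▸ dvd_pow_self 2 hj0)
  refine ⟨((z : D) : G), ⟨(z : D).2, ?_, fun d hd => ?_⟩, fun e => ?_⟩
  · have h2 : z ^ 2 = 1 := hz ▸ pow_orderOf_eq_one z
    rw [pow_two] at h2
    exact congrArg (fun w : Subgroup.center D => ((w : D) : G)) h2
  · exact (congrArg Subtype.val (Subgroup.mem_center_iff.1 z.2 ⟨d, hd⟩)).symm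
  · have : z = 1 := Subtype.ext (Subtype.ext e)
    rw [this, orderOf_one] at hz
    omega

theorem exists_not_commute {x : Ω} {D : Subgroup G} (hD : Syl k x D) :
    ∃ z ∈ omegaZ D, ∃ u ∈ stabilizer G x, u * z ≠ z * u := by
  by_contra hcon
  push Not at hcon
  obtain ⟨y, hyx, hy⟩ := h.edge x D hD.1 hD.2
  obtain ⟨g, hgy, hgD⟩ := h.syl_transport hD ⟨hy, hD.2⟩
  obtain ⟨z, hz, hz1⟩ := h.exists_omegaZ_ne_one hD
  refine hyx (h.eq_of_central hz1 (hy hz.1) (fun u hu => ?_) (fun u hu => hcon z hz u hu))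
  have hz' : g⁻¹ * z * g ∈ omegaZ D := by
    rw [← mem_cj, omegaZ_cj, hgD]; exact hz
  have hu' : g⁻¹ * u * g ∈ stabilizer G x := by
    rw [mem_stabilizer_iff, mul_smul, mul_smul, hgy, mem_stabilizer_iff.1 hu, ← hgy, inv_smul_smul]
  have e := hcon _ hz' _ hu'
  calc u * z = g * ((g⁻¹ * u * g) * (g⁻¹ * z * g)) * g⁻¹ := by group
    _ = g * ((g⁻¹ * z * g) * (g⁻¹ * u * g)) * g⁻¹ := by rw [e]
    _ = z * u := by group

/-- An element of a point stabiliser centralising the abelian subgroup lies in the core. -/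
theorem mem_core_of_commute {x : Ω} {g : G} (hg : g ∈ stabilizer G x)
    (hc : ∀ w ∈ zgen k x, g * w = w * g) : g ∈ core k x := by
  by_contra hne
  simp only [core, Subgroup.mem_iInf, not_forall] at hne
  obtain ⟨⟨D, hD⟩, hgD⟩ := hne
  obtain ⟨z, hz, u, hu, huz⟩ := h.exists_not_commute hD
  let H : Subgroup G := Subgroup.centralizer {z} ⊓ stabilizer G x
  have hle : D ≤ H := fun d hd =>
    ⟨Subgroup.mem_centralizer_singleton_iff.2 (hz.2.2 d hd).symm, hD.1 hd⟩
  have hgH : g ∈ H := ⟨Subgroup.mem_centralizer_singleton_iff.2 (hc z (omegaZ_le_zgen hD hz)), hg⟩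
  have : H = stabilizer G x := h.eq_of_lt hD hle inf_le_right fun e => hgD (e ▸ hgH)
  exact huz (Subgroup.mem_centralizer_singleton_iff.1 (this ▸ hu : u ∈ H).1)

/-- The case in which a central involution of a Sylow subgroup lies outside the core. -/
theorem le_four_of_not_le {x : Ω} {D : Subgroup G} (hD : Syl k x D) {z : G} (hz : z ∈ omegaZ D)
    (hzc : z ∉ core k x) : 2 ^ k ≤ 4 := by
  have hsq : ∀ {p : Ω} {E : Subgroup G} {w : G}, Syl k p E → w ∈ omegaZ E → w ∉ core k p →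
      sq E ≤ sq (core k p) := by
    intro p E w hE hw hwc
    refine sq_le fun d hd => ?_
    by_cases hdc : d ∈ core k p
    · exact mem_sq hdc
    · have hdw := h.mul_mem_core hE d hd w hw.1 hdc hwc
      have e : d * w * (d * w) = d * d := by
        calc d * w * (d * w) = d * (w * d) * w := by group
          _ = d * (d * w) * w := by rw [hw.2.2 d hd]
          _ = d * d * (w * w) := by group
          _ = d * d := by rw [hw.2.1, mul_one]
      exact e ▸ mem_sq hdw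
  have htr : ∀ {p : Ω} {E : Subgroup G}, Syl k p E → sq E ≤ sq (core k p) := by
    intro p E hE
    obtain ⟨g, hgx, hgD⟩ := h.syl_transport hD hE
    refine hsq hE (w := g * z * g⁻¹) (hgD ▸ omegaZ_cj g D ▸ conj_mem_cj hz) fun hc => hzc ?_
    have := cj_core (k := k) g⁻¹ p hc
    rw [← hgx, inv_smul_smul] at this
    simpa [mul_assoc] using this
  obtain ⟨y, hyx, hy⟩ := h.edge x D hD.1 hD.2
  have hyD : Syl k y D := ⟨hy, hD.2⟩
  have hbot : ∀ {p : Ω} {E : Subgroup G}, Syl k p E → sq E = ⊥ := by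
    intro p E hE
    refine eq_bot_iff.2 ((htr hE).trans ?_)
    obtain ⟨E', hE'⟩ := h.exists_syl p
    obtain ⟨q, hqp, hq⟩ := h.edge p E hE.1 hE.2
    rw [h.sq_core_eq_bot hqp.symm ((sq_mono (core_le hE)).trans (htr ⟨hq, hE.2⟩))]
  have habel : ∀ {p : Ω} {E : Subgroup G}, Syl k p E → ∀ a ∈ E, ∀ b ∈ E, a * b = b * a := by
    intro p E hE a ha b hb
    have h2 : ∀ w ∈ E, w⁻¹ = w := fun w hw => inv_eq_of_mul_eq_one_right
      ((Subgroup.eq_bot_iff_forall _).1 (hbot hE) _ (mem_sq hw))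
    calc a * b = (a * b)⁻¹ := (h2 _ (mul_mem ha hb)).symm
      _ = b * a := by rw [mul_inv_rev, h2 a ha, h2 b hb]
  have hcent : ∀ {p : Ω} {c : G}, c ∈ core k p → ∀ u ∈ stabilizer G p, u * c = c * u := by
    intro p c hc u hu
    obtain ⟨E, hE⟩ := h.exists_syl p
    obtain ⟨E', hE', hne⟩ := h.exists_other hE
    have hle : stabilizer G p ≤ Subgroup.centralizer {c} := by
      rw [← h.sup_eq hE hE' hne.symm]
      exact sup_le (fun d hd => Subgroup.mem_centralizer_singleton_iff.2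
          (habel hE d hd c (core_le hE hc))) (fun d hd => Subgroup.mem_centralizer_singleton_iff.2
          (habel hE' d hd c (core_le hE' hc)))
    exact Subgroup.mem_centralizer_singleton_iff.1 (hle hu)
  have hcap : ∀ c ∈ core (G := G) k x, c ∈ core (G := G) k y → c = 1 := fun c hc hc' => by
    by_contra hne
    exact hyx (h.eq_of_central hne (hy (core_le hD hc)) (hcent hc') (hcent hc))
  have h1 : Nat.card (core (G := G) k x) ≤ 2 := by
    have := card_le_two_mul (H := (⊥ : Subgroup G)) (K := core k x) fun a ha b hb ha' hb' => by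
      rw [Subgroup.mem_bot] at ha' hb' ⊢
      exact hcap _ (mul_mem ha hb) (h.mul_mem_core hyD a (core_le hD ha) b (core_le hD hb)
        (fun e => ha' (hcap a ha e)) fun e => hb' (hcap b hb e))
    rwa [Subgroup.card_bot, mul_one] at this
  have h2 := card_le_two_mul (h.mul_mem_core hD)
  rw [hD.2] at h2
  omega

variable (hZ : ∀ (x : Ω) (D : Subgroup G), Syl k x D → omegaZ D ≤ core k x)
include hZ

omit h [Finite G] in
theorem zgen_le_core (x : Ω) : zgen (G := G) k x ≤ core k x := iSup_le fun D => hZ x D D.2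

omit h [Finite G] in
theorem zgen_comm_core {x : Ω} {u c : G} (hu : u ∈ zgen k x) (hc : c ∈ core k x) : u * c = c * u := by
  refine Subgroup.iSup_induction (fun D : {D : Subgroup G // Syl k x D} => omegaZ (D : Subgroup G))
    (C := fun u => u * c = c * u) hu (fun D v hv => hv.2.2 c (core_le D.2 hc)) (by simp) ?_
  intro v w hv hw
  rw [mul_assoc, hw, ← mul_assoc, hv, mul_assoc]

omit h [Finite G] in
theorem zgen_sq {x : Ω} {u : G} (hu : u ∈ zgen k x) : u * u = 1 := by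
  refine (Subgroup.iSup_induction (fun D : {D : Subgroup G // Syl k x D} => omegaZ (D : Subgroup G))
    (C := fun u => u ∈ zgen k x ∧ u * u = 1) hu (fun D v hv => ⟨omegaZ_le_zgen D.2 hv, hv.2.1⟩)
    ⟨one_mem _, mul_one 1⟩ ?_).2
  rintro v w ⟨hv, hv2⟩ ⟨hw, hw2⟩
  refine ⟨mul_mem hv hw, ?_⟩
  calc v * w * (v * w) = v * (w * v) * w := by group
    _ = v * (v * w) * w := by rw [zgen_comm_core hZ hw (zgen_le_core hZ x hv)]
    _ = (v * v) * (w * w) := by group
    _ = 1 := by rw [hv2, hw2, one_mul]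

omit h [Finite G] in
theorem mem_omegaZ {x : Ω} {D : Subgroup G} (hD : Syl k x D) {u : G} (hu : u ∈ zgen k x)
    (hc : ∀ d ∈ D, u * d = d * u) : u ∈ omegaZ D :=
  ⟨core_le hD (zgen_le_core hZ x hu), zgen_sq hZ hu, hc⟩

omit h [Finite G] in
theorem comm_self (x : Ω) : Comm G k x x := fun _ hu _ hw => zgen_comm_core hZ hu (zgen_le_core hZ x hw)

theorem exists_not_comm (x : Ω) : ∃ (n : ℕ) (y z : Ω), Reach G k n y z ∧ ¬ Comm G k y z := by
  by_contra hcon
  push Not at hcon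
  obtain ⟨D, hD⟩ := h.exists_syl x
  obtain ⟨y₀, hy₀x, hy₀⟩ := h.edge x D hD.1 hD.2
  have hstep : Step G k x y₀ := ⟨D, hD, hy₀, hD.2⟩
  let H : Subgroup G :=
    { carrier := {g | ∀ y : Ω, (∃ n, Reach G k n x (g • y)) ↔ ∃ n, Reach G k n x y}
      one_mem' := fun y => by simp
      mul_mem' := fun {g g'} hg hg' y => by rw [mul_smul]; exact (hg _).trans (hg' y)
      inv_mem' := fun {g} hg y => by
        have := hg (g⁻¹ • y)
        rw [smul_inv_smul] at this
        exact this.symm }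
  have hHx : stabilizer G x ≤ H := by
    intro g hg y
    constructor
    · rintro ⟨n, hn⟩
      have := reach_smul g⁻¹ hn
      rw [inv_smul_smul, inv_smul_eq_iff.2 (mem_stabilizer_iff.1 hg).symm] at this
      exact ⟨n, this⟩
    · rintro ⟨n, hn⟩
      have := reach_smul g hn
      rw [mem_stabilizer_iff.1 hg] at this
      exact ⟨n, this⟩
  obtain ⟨g, hg⟩ := h.trans x y₀
  have hgH : g ∈ H := by
    intro y
    constructor
    · rintro ⟨n, hn⟩
      have h1 := reach_smul g⁻¹ hn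
      rw [inv_smul_smul] at h1
      have h2 := step_smul g⁻¹ hstep
      rw [← hg, inv_smul_smul] at h2
      exact ⟨n + 1, reach_cons (step_symm h2) h1⟩
    · rintro ⟨n, hn⟩
      have h1 := reach_smul g hn
      rw [hg] at h1
      exact ⟨n + 1, reach_cons hstep h1⟩
  have htop : H = ⊤ := (h.max x H hHx).resolve_left fun e =>
    hy₀x (hg.symm.trans (e ▸ hgH : g ∈ stabilizer G x))
  have hall : ∀ y, ∃ n, Reach G k n x y := by
    intro y
    obtain ⟨w, rfl⟩ := h.trans x y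
    exact ((htop.symm ▸ Subgroup.mem_top w : w ∈ H) x).2 ⟨0, reach_zero x⟩
  obtain ⟨u, hu, hu1⟩ := h.exists_omegaZ_ne_one hD
  have huV := omegaZ_le_zgen hD hu
  have key : ∀ (n : ℕ) (y : Ω), Reach G k n x y → u ∈ core k y := by
    intro n
    induction n with
    | zero =>
      rintro y ⟨p, h0, hn, -⟩
      rw [← hn, h0]
      exact zgen_le_core hZ x huV
    | succ n ih =>
      intro y hr
      obtain ⟨q, hq, E, hqE, hyE⟩ := reach_last hr
      exact h.mem_core_of_commute (hyE.1 (core_le hqE (ih q hq)))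
        fun w hw => hcon _ x y hr u huV w hw
  refine hu1 (h.faith u fun y => ?_)
  obtain ⟨n, hn⟩ := hall y
  obtain ⟨E, hE⟩ := h.exists_syl y
  exact hE.1 (core_le hE (key n y hn))

/-- Below the critical distance the abelian subgroup lies in the cores. -/
theorem near_core {b : ℕ} (hmin : ∀ n < b, ∀ x y : Ω, Reach G k n x y → Comm G k x y) :
    ∀ {n : ℕ}, n < b → ∀ {x y : Ω}, Reach G k n x y → zgen (G := G) k x ≤ core k y := by
  intro n
  induction n with
  | zero =>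
    rintro - x y ⟨p, h0, hn, -⟩
    rw [← hn, h0]
    exact zgen_le_core hZ x
  | succ n ih =>
    intro hnb x y hr u hu
    obtain ⟨q, hq, E, hqE, hyE⟩ := reach_last hr
    exact h.mem_core_of_commute (hyE.1 (core_le hqE (ih (by omega) hq hu)))
      fun w hw => hmin _ hnb x y hr u hu w hw

/-- At critical distance the abelian subgroup lies in the stabiliser. -/
theorem near_syl {b : ℕ} (hmin : ∀ n < b, ∀ x y : Ω, Reach G k n x y → Comm G k x y)
    {n : ℕ} (hnb : n < b) {x q : Ω} (hr : Reach G k n x q) {D : Subgroup G} (hD : Syl k q D) :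
    zgen (G := G) k x ≤ D :=
  (h.near_core hZ hmin hnb hr).trans (core_le hD)

section Offender

variable (hV : ∀ (x : Ω) (D : Subgroup G), Syl k x D →
  ∀ u ∈ zgen k x, ∀ v ∈ zgen k x, u ∉ omegaZ D → v ∉ omegaZ D → u * v ∈ omegaZ D)
include hV

theorem cen_le {x : Ω} {D : Subgroup G} (hD : Syl k x D) {c : G} (hc : c ∈ cen k x) : c ∈ omegaZ D :=
  mem_omegaZ hZ hD (mem_cen.1 hc).1 fun d hd => ((mem_cen.1 hc).2 d (hD.1 hd)).symm

theorem mem_cen_of_two {x : Ω} {D E : Subgroup G} (hD : Syl k x D) (hE : Syl k x E) (hne : D ≠ E)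
    {c : G} (h1 : c ∈ omegaZ D) (h2 : c ∈ omegaZ E) : c ∈ cen k x := by
  refine mem_cen.2 ⟨omegaZ_le_zgen hD h1, fun u hu => ?_⟩
  have hle : stabilizer G x ≤ Subgroup.centralizer {c} := by
    rw [← h.sup_eq hD hE hne]
    exact sup_le (fun d hd => Subgroup.mem_centralizer_singleton_iff.2 (h1.2.2 d hd).symm)
      (fun d hd => Subgroup.mem_centralizer_singleton_iff.2 (h2.2.2 d hd).symm)
  exact Subgroup.mem_centralizer_singleton_iff.1 (hle hu)

theorem mul_mem_cen {x : Ω} {D : Subgroup G} (hD : Syl k x D) :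
    ∀ a ∈ omegaZ D, ∀ b ∈ omegaZ D, a ∉ cen k x → b ∉ cen k x → a * b ∈ cen k x := by
  intro a ha b hb ha' hb'
  obtain ⟨E, hE, hne⟩ := h.exists_other hD
  exact h.mem_cen_of_two hZ hV hD hE hne.symm (mul_mem ha hb)
    (hV x E hE a (omegaZ_le_zgen hD ha) b (omegaZ_le_zgen hD hb)
      (fun e => ha' (h.mem_cen_of_two hZ hV hD hE hne.symm ha e))
      (fun e => hb' (h.mem_cen_of_two hZ hV hD hE hne.symm hb e)))

theorem cen_unique {x : Ω} {a b : G} (ha : a ∈ cen k x) (hb : b ∈ cen k x) (ha1 : a ≠ 1)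
    (hb1 : b ≠ 1) : a = b := by
  obtain ⟨D, hD⟩ := h.exists_syl x
  obtain ⟨y, hyx, hy⟩ := h.edge x D hD.1 hD.2
  have hcap : ∀ c ∈ cen (G := G) k x, c ∈ cen (G := G) k y → c = 1 := fun c hc hc' => by
    by_contra hne
    exact hyx (h.eq_of_central hne (hy (h.cen_le hZ hV hD hc).1) (mem_cen.1 hc').2 (mem_cen.1 hc).2)
  have h1 := hcap _ (mul_mem ha hb) (h.mul_mem_cen hZ hV ⟨hy, hD.2⟩ a (h.cen_le hZ hV hD ha) b
    (h.cen_le hZ hV hD hb) (fun e => ha1 (hcap a ha e)) (fun e => hb1 (hcap b hb e)))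
  rw [eq_inv_of_mul_eq_one_left h1]
  exact inv_eq_of_mul_eq_one_right (h.cen_le hZ hV hD hb).2.1

theorem card_omegaZ {x : Ω} {D : Subgroup G} (hD : Syl k x D) : Nat.card (omegaZ D) ≤ 4 := by
  have h1 := card_le_two_mul (h.mul_mem_cen hZ hV hD)
  have h2 : Nat.card (cen (G := G) k x) ≤ 2 := by
    have := card_le_two_mul (H := (⊥ : Subgroup G)) (K := cen k x) fun a ha b hb ha' hb' => by
      rw [Subgroup.mem_bot] at ha' hb' ⊢
      rw [h.cen_unique hZ hV ha hb ha' hb']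
      exact (h.cen_le hZ hV hD hb).2.1
    rwa [Subgroup.card_bot, mul_one] at this
  omega

theorem isR_unique {x : Ω} {D : Subgroup G} (hD : Syl k x D) {r r' : G} (hr : IsR k x D r)
    (hr' : IsR k x D r') : r = r' := by
  obtain ⟨hr1, d, hd, v, hv, rfl⟩ := hr
  obtain ⟨hr1', d', hd', v', hv', rfl⟩ := hr'
  have hout : ∀ {d v : G}, d ∈ D → v ∈ zgen k x → d * v * d⁻¹ * v⁻¹ ≠ 1 →
      d ∉ core k x ∧ v ∉ omegaZ D := by
    intro d v hd hv hne
    refine ⟨fun hdc => hne ?_, fun hvZ => hne ?_⟩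
    · rw [← zgen_comm_core hZ hv hdc]; group
    · rw [← hvZ.2.2 d hd]; group
  obtain ⟨hdc, hvZ⟩ := hout hd hv hr1
  obtain ⟨hdc', hvZ'⟩ := hout hd' hv' hr1'
  have hm := h.mul_mem_core hD d'⁻¹ (inv_mem hd') d hd (fun e => hdc' (by simpa using inv_mem e)) hdc
  have e1 := zgen_comm_core hZ hv hm
  have hz := hV x D hD v hv v' hv' hvZ hvZ'
  have e3 : d * v * d⁻¹ = d' * v * d'⁻¹ := by
    calc d * v * d⁻¹ = d' * (d'⁻¹ * d * v) * d⁻¹ := by group
      _ = d' * (v * (d'⁻¹ * d)) * d⁻¹ := by rw [e1]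
      _ = d' * v * d'⁻¹ := by group
  have e4 := hz.2.2 d' hd'
  have e5 : v' = v * (v * v') := by rw [← mul_assoc, zgen_sq hZ hv, one_mul]
  rw [e3, e5]
  generalize v * v' = z at e4
  calc d' * v * d'⁻¹ * v⁻¹ = d' * v * (z * z⁻¹) * d'⁻¹ * v⁻¹ := by group
    _ = d' * v * z * (d' * z)⁻¹ * v⁻¹ := by group
    _ = d' * v * z * (z * d')⁻¹ * v⁻¹ := by rw [e4]
    _ = d' * (v * z) * d'⁻¹ * (v * z)⁻¹ := by group

omit h hZ hV [Finite G] in
theorem isR_smul {x : Ω} {D : Subgroup G} {r : G} (g : G) (hr : IsR k x D r) :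
    IsR k (g • x) (cj g D) (g * r * g⁻¹) := by
  obtain ⟨hr1, d, hd, v, hv, rfl⟩ := hr
  refine ⟨fun e => hr1 (by simpa using e), _, conj_mem_cj hd, _, cj_zgen g x hv, by group⟩

theorem isR_mem {x : Ω} {D : Subgroup G} (hD : Syl k x D) {r : G} (hr : IsR k x D r) :
    r ∈ omegaZ D := by
  obtain ⟨hr1, d, hd, v, hv, e⟩ := id hr
  have hrV : r ∈ zgen k x := e ▸ mul_mem (h.zgen_conj_mem (hD.1 hd) hv) (inv_mem hv)
  refine mem_omegaZ hZ hD hrV fun d' hd' => ?_
  have h1 := isR_smul d' hr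
  rw [mem_stabilizer_iff.1 (hD.1 hd'), cj_eq_self hd'] at h1
  have h2 := h.isR_unique hZ hV hD h1 hr
  calc r * d' = d' * r * d'⁻¹ * d' := by rw [h2]
    _ = d' * r := by group

theorem comm_or {x : Ω} {D : Subgroup G} (hD : Syl k x D) {r : G} (hr : IsR k x D r) {d v : G}
    (hd : d ∈ D) (hv : v ∈ zgen k x) :
    (d * v * d⁻¹ * v⁻¹ = 1 ∨ d * v * d⁻¹ * v⁻¹ = r) ∧
      (v * d * v⁻¹ * d⁻¹ = 1 ∨ v * d * v⁻¹ * d⁻¹ = r) := by
  have h1 : d * v * d⁻¹ * v⁻¹ = 1 ∨ d * v * d⁻¹ * v⁻¹ = r :=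
    or_iff_not_imp_left.2 fun hne => h.isR_unique hZ hV hD ⟨hne, d, hd, v, hv, rfl⟩ hr
  refine ⟨h1, ?_⟩
  rw [show v * d * v⁻¹ * d⁻¹ = (d * v * d⁻¹ * v⁻¹)⁻¹ by group]
  rcases h1 with e | e <;> rw [e]
  · exact Or.inl inv_one
  · exact Or.inr (inv_eq_of_mul_eq_one_right (h.isR_mem hZ hV hD hr).2.1)

theorem isR_not_cen {x : Ω} {D : Subgroup G} (hD : Syl k x D) {r : G} (hr : IsR k x D r) :
    r ∉ cen k x := by
  intro hc
  let H : Subgroup G :=
    { carrier := {u | u ∈ stabilizer G x ∧ ∀ w ∈ zgen k x, u * w * u⁻¹ * w⁻¹ ∈ cen k x}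
      one_mem' := ⟨one_mem _, fun w _ => by simp⟩
      mul_mem' := by
        rintro u v ⟨hu, hu'⟩ ⟨hv, hv'⟩
        refine ⟨mul_mem hu hv, fun w hw => ?_⟩
        have e1 := (mem_cen.1 (hv' w hw)).2 u hu
        have : u * v * w * (u * v)⁻¹ * w⁻¹ = (v * w * v⁻¹ * w⁻¹) * (u * w * u⁻¹ * w⁻¹) := by
          calc u * v * w * (u * v)⁻¹ * w⁻¹ = u * (v * w * v⁻¹ * w⁻¹) * (w * u⁻¹ * w⁻¹) := by group
            _ = (v * w * v⁻¹ * w⁻¹) * u * (w * u⁻¹ * w⁻¹) := by rw [e1]
            _ = _ := by group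
        rw [this]
        exact mul_mem (hv' w hw) (hu' w hw)
      inv_mem' := by
        rintro u ⟨hu, hu'⟩
        refine ⟨inv_mem hu, fun w hw => ?_⟩
        have h2 := hu' _ (h.zgen_conj_mem (g := u⁻¹) (x := x) (inv_mem hu : u⁻¹ ∈ stabilizer G x) hw)
        rw [show u * (u⁻¹ * w * u⁻¹⁻¹) * u⁻¹ * (u⁻¹ * w * u⁻¹⁻¹)⁻¹ = w * u⁻¹ * w⁻¹ * u by group] at h2
        have e1 := (mem_cen.1 h2).2 u hu
        have := inv_mem h2
        rw [show u⁻¹ * w * u⁻¹⁻¹ * w⁻¹ = (w * u⁻¹ * w⁻¹ * u)⁻¹ by group]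
        exact this }
  have hle : ∀ E, Syl k x E → E ≤ H := by
    intro E hE u hu
    obtain ⟨g, hg, hgE⟩ := h.syl_conj hD hE
    have h1 := isR_smul g hr
    rw [mem_stabilizer_iff.1 hg, hgE, (mem_cen.1 hc).2 g hg, mul_inv_cancel_right] at h1
    refine ⟨hE.1 hu, fun w hw => ?_⟩
    rcases (h.comm_or hZ hV hE h1 hu hw).1 with e | e <;> rw [e]
    · exact one_mem _
    · exact hc
  obtain ⟨E, hE, hne⟩ := h.exists_other hD
  have hall : stabilizer G x ≤ H := h.sup_eq hD hE hne.symm ▸ sup_le (hle D hD) (hle E hE)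
  haveI := Fact.mk Nat.prime_three
  obtain ⟨t, ht⟩ := exists_prime_orderOf_dvd_card' (G := stabilizer G x) 3
    (by rw [h.card x]; exact dvd_mul_right 3 _)
  have ht3 : (t : G) * t * t = 1 := by
    have : t ^ 3 = 1 := ht ▸ pow_orderOf_eq_one t
    simpa [pow_succ, pow_zero] using congrArg Subtype.val this
  have htc : (t : G) ∈ core k x := by
    refine h.mem_core_of_commute t.2 fun w hw => ?_
    have hc' := (hall t.2).2 w hw
    obtain ⟨hcV, hcc⟩ := mem_cen.1 hc'
    have e2 := zgen_sq hZ hcV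
    have ec := hcc t t.2
    generalize hcd : (t : G) * w * (t : G)⁻¹ * w⁻¹ = c at e2 ec
    have e1 : (t : G) * w = c * w * t := by rw [← hcd]; group
    have e1' : (t : G) * w * (t : G)⁻¹ = c * w := by rw [← hcd]; group
    have ec' : (t : G) * c * (t : G)⁻¹ = c := by rw [ec, mul_inv_cancel_right]
    have h3 : w = c * c * c * w := by
      calc w = (t : G) * t * t * w * ((t : G) * t * t)⁻¹ := by rw [ht3]; group
        _ = (t : G) * ((t : G) * ((t : G) * w * (t : G)⁻¹) * (t : G)⁻¹) * (t : G)⁻¹ := by group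
        _ = (t : G) * ((t : G) * (c * w) * (t : G)⁻¹) * (t : G)⁻¹ := by rw [e1']
        _ = (t : G) * (((t : G) * c * (t : G)⁻¹) * ((t : G) * w * (t : G)⁻¹)) * (t : G)⁻¹ := by group
        _ = (t : G) * (c * (c * w)) * (t : G)⁻¹ := by rw [ec', e1']
        _ = ((t : G) * c * (t : G)⁻¹) * ((t : G) * c * (t : G)⁻¹) * ((t : G) * w * (t : G)⁻¹) := by group
        _ = c * c * c * w := by rw [ec', e1']; group
    rw [e2, one_mul] at h3
    have hc1 : c = 1 := mul_eq_right.1 h3.symm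
    rw [e1, hc1, one_mul]
  have h4 : orderOf (t : G) ∣ 2 ^ k := hD.2 ▸ Subgroup.orderOf_dvd_natCard _ (core_le hD htc)
  rw [Subgroup.orderOf_coe, ht] at h4
  exact absurd (Nat.prime_three.dvd_of_dvd_pow h4) (by norm_num)

end Offender

end Setup

end Cfsg.Agent.SimsThree
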